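import Groth.Agent.SmoothDimLib.Chart
import Groth.Agent.DepthLib.GeomRk
import Groth.Agent.SMTLib.MaxHeight
import Mathlib

/-!
# Smoothness of relative dimension `m` over an algebraically closed field, read at closed points
-/

set_option autoImplicit false
set_option linter.unusedSectionVars false
set_option linter.style.haveILetI false

universe u

open CategoryTheory AlgebraicGeometry TopologicalSpace

namespace CIGen

/-- The local rings at maximal ideals of a standard smooth algebra of relative dimension `m`. -/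
theorem stdSmooth_maximal (k : Type u) [Field k] (m : ℕ) (A : Type u) [CommRing A] [Algebra k A]
    [Algebra.IsStandardSmoothOfRelativeDimension m k A] (q : Ideal A) [q.IsMaximal] :
    IsRegularLocalRing (Localization.AtPrime q) ∧ ringKrullDim (Localization.AtPrime q) = (m : WithBot ℕ∞) := by
  classical
  haveI : Algebra.IsStandardSmooth k A := Algebra.IsStandardSmoothOfRelativeDimension.isStandardSmooth m
  haveI : IsNoetherianRing A := Algebra.FiniteType.isNoetherianRing k A
  haveI : Algebra.FormallySmooth A (Localization.AtPrime q) :=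
    haveI := Algebra.FormallyEtale.of_isLocalization (Rₘ := Localization.AtPrime q) q.primeCompl
    inferInstance
  haveI : Algebra.FormallySmooth k (Localization.AtPrime q) := Algebra.FormallySmooth.comp k A _
  haveI : IsNoetherianRing (Localization.AtPrime q) := IsLocalization.isNoetherianRing q.primeCompl _ inferInstance
  haveI hreg : IsRegularLocalRing (Localization.AtPrime q) := CohenLib.isRegularLocalRing_of_formallySmooth (k := k)
  refine ⟨hreg, ?_⟩
  haveI : IsDomain (Localization.AtPrime q) := CommAlgDim.isDomain_of_isRegularLocalRing _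
  obtain ⟨g, hg, hdom⟩ := SmoothDimLib.exists_isDomain_away q
  let Ag := Localization.Away (g * 1)
  haveI : IsDomain Ag := hdom 1 (fun h => Ideal.IsPrime.ne_top inferInstance ((Ideal.eq_top_iff_one _).2 h)) Ag
  haveI : Algebra.IsStandardSmoothOfRelativeDimension 0 A Ag :=
    Algebra.IsStandardSmoothOfRelativeDimension.localization_away (g * 1)
  haveI : Algebra.IsStandardSmoothOfRelativeDimension m k Ag := by
    have := Algebra.IsStandardSmoothOfRelativeDimension.trans m 0 k A Ag
    rwa [zero_add] at this
  have hdisj : Disjoint (Submonoid.powers (g * 1) : Set A) (q : Set A) := Set.disjoint_left.2 fun x hx hxq => by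
    obtain ⟨i, rfl⟩ := hx
    exact hg (by simpa using Ideal.IsPrime.mem_of_pow_mem ‹q.IsMaximal›.isPrime i hxq)
  let q' := q.map (algebraMap A Ag)
  haveI : q'.IsPrime := IsLocalization.isPrime_of_isPrime_disjoint (Submonoid.powers (g * 1)) Ag q inferInstance hdisj
  have hu : q'.under A = q :=
    IsLocalization.under_map_of_isPrime_disjoint (Submonoid.powers (g * 1)) Ag inferInstance hdisj
  haveI : q'.IsMaximal := by
    obtain ⟨M, hM, hle⟩ := Ideal.exists_le_maximal q' (Ideal.IsPrime.ne_top inferInstance)
    have h1 : q ≤ M.under A := hu ▸ Ideal.comap_mono hle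
    have h2 : M.under A = q := (Ideal.IsMaximal.eq_of_le ‹q.IsMaximal› (Ideal.comap_ne_top _ hM.ne_top) h1).symm
    have h3 : q' = M := by
      rw [← IsLocalization.map_under (Submonoid.powers (g * 1)) Ag M, h2]
    exact h3 ▸ hM
  haveI : Algebra.IsStandardSmooth k Ag := Algebra.IsStandardSmoothOfRelativeDimension.isStandardSmooth m
  rw [IsLocalization.AtPrime.ringKrullDim_eq_height q (Localization.AtPrime q), ← hu,
    IsLocalization.height_under (Submonoid.powers (g * 1)), MaxHeight.affine_domain k Ag,
    SmoothDimLib.ringKrullDim_eq_of_standardSmooth (k := k) m Ag]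

variable {k : Type u} [Field k] {Y : Scheme.{u}} (g : Y ⟶ Spec (CommRingCat.of k))

theorem chart_closedPt {m : ℕ} {U : (Spec (CommRingCat.of k)).Opens} {V : Y.Opens} (hV : IsAffineOpen V)
    (e : V ≤ g ⁻¹ᵁ U) (hs : (g.appLE U V e).hom.IsStandardSmoothOfRelativeDimension m) (y : Y) (hyV : y ∈ V)
    (hy : IsClosed ({y} : Set Y)) :
    IsRegularLocalRing (Y.presheaf.stalk y) ∧ ringKrullDim (Y.presheaf.stalk y) = (m : WithBot ℕ∞) := by
  have hU : U = ⊤ := top_le_iff.1 fun p _ => by
    haveI : Subsingleton ↥(Spec (CommRingCat.of k)) := inferInstanceAs (Subsingleton (PrimeSpectrum k))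
    rw [Subsingleton.elim p (g y)]
    exact e hyV
  subst hU
  letI : Algebra k Γ(Y, V) :=
    ((g.appLE ⊤ V e).hom.comp (Scheme.ΓSpecIso (CommRingCat.of k)).inv.hom).toAlgebra
  haveI : Algebra.IsStandardSmoothOfRelativeDimension m k Γ(Y, V) := by
    have h := RingHom.isStandardSmoothOfRelativeDimension_respectsIso.2 _
      (Scheme.ΓSpecIso (CommRingCat.of k)).symm.commRingCatIsoToRingEquiv hs
    exact h
  letI := Y.presheaf.algebra_section_stalk ⟨y, hyV⟩
  let q := (hV.primeIdealOf ⟨y, hyV⟩).asIdeal
  haveI : q.IsMaximal := hV.primeIdealOf_isMaximal_of_isClosed ⟨y, hyV⟩ hy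
  haveI : IsLocalization.AtPrime (Y.presheaf.stalk y) q := hV.isLocalization_stalk ⟨y, hyV⟩
  let e' : Localization.AtPrime q ≃+* Y.presheaf.stalk y := (IsLocalization.algEquiv q.primeCompl _ _).toRingEquiv
  obtain ⟨h1, h2⟩ := stdSmooth_maximal k m Γ(Y, V) q
  exact ⟨IsRegularLocalRing.of_ringEquiv e', (ringKrullDim_eq_of_ringEquiv e').symm.trans h2⟩

/-- Closed points of a scheme smooth of relative dimension `m` over a field. -/
theorem closedPt_of_smooth (m : ℕ) [SmoothOfRelativeDimension m g] (y : Y) (hy : IsClosed ({y} : Set Y)) :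
    IsRegularLocalRing (Y.presheaf.stalk y) ∧ ringKrullDim (Y.presheaf.stalk y) = (m : WithBot ℕ∞) := by
  obtain ⟨U, _, V, hV, hyV, e, hs⟩ := SmoothOfRelativeDimension.exists_isStandardSmoothOfRelativeDimension (n := m) (f := g) y
  exact chart_closedPt g hV e hs y hyV hy

/-- Smoothness of relative dimension `m` read at closed points. -/
theorem smooth_of_closedPts [IsAlgClosed k] [LocallyOfFiniteType g] (m : ℕ)
    (h : ∀ y : Y, IsClosed ({y} : Set Y) →
      IsRegularLocalRing (Y.presheaf.stalk y) ∧ ringKrullDim (Y.presheaf.stalk y) = (m : WithBot ℕ∞)) :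
    SmoothOfRelativeDimension m g := by
  haveI : LocallyOfFinitePresentation g := inferInstance
  haveI : JacobsonSpace ↥Y := LocallyOfFiniteType.jacobsonSpace g
  haveI : Smooth g := by
    rw [← Scheme.Hom.smoothLocus_eq_top_iff, ← top_le_iff]
    intro y _
    by_contra hy
    obtain ⟨z, hz, hzc⟩ := nonempty_inter_closedPoints (Z := ((g.smoothLocus : Set Y))ᶜ) ⟨y, hy⟩
      g.smoothLocus.isOpen.isClosed_compl.isLocallyClosed
    exact hz ((DepthLib.regular_of_smooth_and_conversely g z).2 inferInstance (h z hzc).1)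
  refine ⟨fun x => ?_⟩
  obtain ⟨U, hU, V, hV, hx, e, hs⟩ := Smooth.exists_isStandardSmooth g x
  obtain ⟨z, hzV, hzc⟩ := nonempty_inter_closedPoints (Z := (V : Set Y)) ⟨x, hx⟩ V.isOpen.isLocallyClosed
  have h' := hs
  unfold RingHom.IsStandardSmooth at h'
  letI := (g.appLE U V e).hom.toAlgebra
  obtain ⟨ι, σ, hσ, hι, ⟨P⟩⟩ := h'.out
  haveI := hσ
  haveI := hι
  have h2 : (g.appLE U V e).hom.IsStandardSmoothOfRelativeDimension P.dimension :=
    Algebra.SubmersivePresentation.isStandardSmoothOfRelativeDimension P rfl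
  have hP : P.dimension = m := by
    have := (chart_closedPt g hV e h2 z hzV hzc).2.symm.trans (h z hzc).2
    exact_mod_cast this
  exact ⟨U, hU, V, hV, hx, e, hP ▸ h2⟩

end CIGen
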