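import Mathlib.RingTheory.MvPolynomial.Homogeneous
import Mathlib.RingTheory.MvPolynomial.EulerIdentity
import Mathlib.RingTheory.AlgebraicIndependent.Basic
import Mathlib.RingTheory.AlgebraicIndependent.TranscendenceBasis
import Mathlib.Algebra.MvPolynomial.PDeriv
import Mathlib.Algebra.MvPolynomial.Funext
import Mathlib.Data.Finsupp.Weight
import Mathlib.Tactic

/-!
# General tuples of forms cut out transversally

The parameter space of bad tuples is the image of an affine space of smaller dimension, written down explicitly.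
-/

set_option autoImplicit false
set_option linter.unusedSectionVars false
set_option linter.style.haveILetI false

universe u

open MvPolynomial

namespace CIGen

variable {k : Type u} [Field k] {n : ℕ} {ι : Type} [Fintype ι] [DecidableEq ι] (d : ι → ℕ)

/-- The exponents of total degree `e`. -/
abbrev Exp (n e : ℕ) : Type := {s : Fin (n + 1) →₀ ℕ // s.degree = e}

noncomputable instance (n e : ℕ) : Fintype (Exp n e) := (Finsupp.finite_of_degree_eq e).fintype

/-- The coefficient indices. -/
abbrev Idx (n : ℕ) (d : ι → ℕ) : Type := Σ i, Exp n (d i)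

/-- The forms with given coefficients. -/
noncomputable def form (c : Idx n d → k) (i : ι) : MvPolynomial (Fin (n + 1)) k :=
  ∑ s : Exp n (d i), monomial s.1 (c ⟨i, s⟩)

theorem isHomogeneous_form (c : Idx n d → k) (i : ι) : (form d c i).IsHomogeneous (d i) :=
  IsHomogeneous.sum _ _ _ fun s _ => isHomogeneous_monomial _ s.2

/-- A common zero with dependent differentials. -/
def Bad (f : ι → MvPolynomial (Fin (n + 1)) k) : Prop :=
  ∃ (v : Fin (n + 1) → k) (lam : ι → k), v ≠ 0 ∧ lam ≠ 0 ∧ (∀ i, eval v (f i) = 0) ∧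
    ∀ j, ∑ i, lam i * eval v (pderiv j (f i)) = 0

theorem eval_smul_of_homogeneous {f : MvPolynomial (Fin (n + 1)) k} {e : ℕ} (hf : f.IsHomogeneous e)
    (c : k) (v : Fin (n + 1) → k) : eval (fun j => c * v j) f = c ^ e * eval v f := by
  rw [eval_eq, eval_eq, Finset.mul_sum]
  refine Finset.sum_congr rfl fun s hs => ?_
  have h1 : s.sum (fun _ m => m) = e := by
    have := hf (mem_support_iff.1 hs)
    simpa [Finsupp.weight_apply] using this
  rw [← h1, Finsupp.sum, Finset.prod_congr rfl fun j _ => mul_pow c (v j) (s j), Finset.prod_mul_distrib,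
    Finset.prod_pow_eq_pow_sum]
  ring

/-- The substitution of the parameters. -/
theorem exists_generic (hd : ∀ i, 0 < d i) :
    ∃ Φ : MvPolynomial (Idx n d) k, Φ ≠ 0 ∧ ∀ c, eval c Φ ≠ 0 → ¬ Bad (form d c) := by
  classical
  suffices h : ∀ (j₀ : Fin (n + 1)) (l : ι), ∃ Φ : MvPolynomial (Idx n d) k, Φ ≠ 0 ∧ ∀ c,
      ∀ (v : Fin (n + 1) → k) (lam : ι → k), v j₀ = 1 → lam l = 1 → (∀ i, eval v (form d c i) = 0) →
        (∀ j, ∑ i, lam i * eval v (pderiv j (form d c i)) = 0) → eval c Φ = 0 by
    choose Φ hΦ hΦ' using h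
    refine ⟨∏ p : Fin (n + 1) × ι, Φ p.1 p.2, Finset.prod_ne_zero_iff.2 fun p _ => hΦ _ _, fun c hc hbad => hc ?_⟩
    obtain ⟨v, lam, hv, hl, h0, h1⟩ := hbad
    obtain ⟨j₀, hj₀⟩ := Function.ne_iff.1 hv
    obtain ⟨l, hl'⟩ := Function.ne_iff.1 hl
    rw [map_prod]
    refine Finset.prod_eq_zero (Finset.mem_univ (j₀, l)) (hΦ' j₀ l c (fun j => (v j₀)⁻¹ * v j) (fun i => ?_) ?_ ?_ ?_ ?_)
    · exact (lam l)⁻¹ * lam i * (((v j₀)⁻¹) ^ (d i - 1))⁻¹ * ((v j₀)⁻¹) ^ (d l - 1)
    · exact inv_mul_cancel₀ hj₀
    · rw [inv_mul_cancel₀ hl', one_mul, inv_mul_cancel₀ (pow_ne_zero _ (inv_ne_zero hj₀))]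
    · exact fun i => by rw [eval_smul_of_homogeneous (isHomogeneous_form d c i), h0, mul_zero]
    · intro j
      calc _ = (lam l)⁻¹ * ((v j₀)⁻¹) ^ (d l - 1) * ∑ i, lam i * eval v (pderiv j (form d c i)) := by
            rw [Finset.mul_sum]
            refine Finset.sum_congr rfl fun i _ => ?_
            rw [eval_smul_of_homogeneous ((isHomogeneous_form d c i).pderiv)]
            have hrw : ∀ A lam' a b E : k, a ≠ 0 → A * lam' * a⁻¹ * b * (a * E) = A * b * (lam' * E) :=
              fun A lam' a b E ha => by field_simp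
            exact hrw _ _ _ _ _ (pow_ne_zero (d i - 1) (inv_ne_zero hj₀))
        _ = 0 := by rw [h1, mul_zero]
  intro j₀ l
  let J := {j : Fin (n + 1) // j ≠ j₀}
  let L := {i : ι // i ≠ l}
  let eA : ι → Idx n d := fun i => ⟨i, ⟨Finsupp.single j₀ (d i), Finsupp.degree_single j₀ (d i)⟩⟩
  let eB : J → Idx n d := fun j => ⟨l, ⟨Finsupp.single j₀ (d l - 1) + Finsupp.single j.1 1, by
    rw [map_add, Finsupp.degree_single, Finsupp.degree_single]; have := hd l; omega⟩⟩
  let sp : ι ⊕ J → Idx n d := Sum.elim eA eB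
  have hBA : ∀ i j, eA i ≠ eB j := fun i j h => by
    obtain ⟨rfl, h2⟩ := Sigma.mk.inj_iff.1 h
    have := congrArg (fun s : Exp n (d i) => s.1 j.1) (eq_of_heq h2)
    simp [Finsupp.single_apply, Ne.symm j.2] at this
  have hsp : Function.Injective sp := by
    refine Function.Injective.sumElim (fun a b h => congrArg Sigma.fst h) (fun a b h => ?_) hBA
    have h2 := eq_of_heq (Sigma.mk.inj_iff.1 h).2
    have := congrArg (fun s : Exp n (d l) => s.1 a.1) h2
    simp [Finsupp.single_apply, Ne.symm a.2] at this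
    exact Subtype.ext this.symm
  let Free := {p : Idx n d // p ∉ Set.range sp}
  let τ := J ⊕ L ⊕ Free
  have hcard : Fintype.card τ < Fintype.card (Idx n d) := by
    have h1 : Fintype.card Free = Fintype.card (Idx n d) - Fintype.card (ι ⊕ J) := by
      rw [← Set.card_range_of_injective hsp, ← Fintype.card_subtype_compl]
    have h2 : Fintype.card (ι ⊕ J) ≤ Fintype.card (Idx n d) := Fintype.card_le_of_injective sp hsp
    have h3 : Fintype.card L = Fintype.card ι - 1 := by simp [L]
    have h4 : 0 < Fintype.card ι := Fintype.card_pos_iff.2 ⟨l⟩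
    simp only [τ, Fintype.card_sum, h1, h3] at h2 ⊢
    omega
  -- the point and the multipliers, as polynomials in the parameters
  let V : Fin (n + 1) → MvPolynomial τ k := fun j => if h : j = j₀ then 1 else X (Sum.inl ⟨j, h⟩)
  let Lam : ι → MvPolynomial τ k := fun i => if h : i = l then 1 else X (Sum.inr (Sum.inl ⟨i, h⟩))
  let ev : (p : Idx n d) → MvPolynomial τ k := fun p => aeval V (monomial p.2.1 (1 : k))
  let dv : (p : Idx n d) → Fin (n + 1) → MvPolynomial τ k := fun p j => aeval V (pderiv j (monomial p.2.1 (1 : k)))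
  let Fr : Idx n d → MvPolynomial τ k := fun p => if h : p ∈ Set.range sp then 0 else X (Sum.inr (Sum.inr ⟨p, h⟩))
  let Bv : J → MvPolynomial τ k := fun j => -∑ p, Lam p.1 * Fr p * dv p j.1
  let G : Idx n d → MvPolynomial τ k := fun p => Fr p + ∑ j : J, if eB j = p then Bv j else 0
  let Av : ι → MvPolynomial τ k := fun i => -∑ s : Exp n (d i), G ⟨i, s⟩ * ev ⟨i, s⟩
  let ψ : Idx n d → MvPolynomial τ k := fun p => G p + ∑ i : ι, if eA i = p then Av i else 0
  have hdep : ¬ AlgebraicIndependent k ψ := fun h => by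
    have := h.lift_cardinalMk_le_trdeg
    rw [MvPolynomial.trdeg_of_isDomain] at this
    simp only [Cardinal.mk_fintype, Cardinal.lift_natCast, Nat.cast_le] at this
    omega
  rw [algebraicIndependent_iff] at hdep
  push Not at hdep
  obtain ⟨Φ, hΦ, hΦ0⟩ := hdep
  refine ⟨Φ, hΦ0, fun c v lam hv hl h0 h1 => ?_⟩
  let g : τ → k := Sum.elim (fun j => v j.1) (Sum.elim (fun i => lam i.1) fun p => c p.1)
  have hgV : ∀ j, eval g (V j) = v j := fun j => by
    simp only [V]
    split_ifs with h
    · subst h; rw [map_one, hv]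
    · simp [g]
  have hgL : ∀ i, eval g (Lam i) = lam i := fun i => by
    simp only [Lam]
    split_ifs with h
    · subst h; rw [map_one, hl]
    · simp [g]
  have hgaeval : ∀ q : MvPolynomial (Fin (n + 1)) k, eval g (aeval V q) = eval v q := fun q => by
    induction q using MvPolynomial.induction_on with
    | C a => simp
    | add p q hp hq => simp only [map_add, hp, hq]
    | mul_X p j hp => simp only [map_mul, aeval_X, hp, hgV, eval_X]
  have hf0 : ∀ i, ∑ s : Exp n (d i), c ⟨i, s⟩ * eval v (monomial s.1 (1 : k)) = 0 := fun i => by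
    rw [← h0 i, form, map_sum]
    exact Finset.sum_congr rfl fun s _ => by
      rw [show monomial s.1 (c ⟨i, s⟩) = C (c ⟨i, s⟩) * monomial s.1 (1 : k) by rw [C_mul_monomial, mul_one], map_mul, eval_C]
  have hf1 : ∀ j, ∑ p : Idx n d, lam p.1 * c p * eval v (pderiv j (monomial p.2.1 (1 : k))) = 0 := fun j => by
    rw [Fintype.sum_sigma, ← h1 j]
    refine Finset.sum_congr rfl fun i _ => ?_
    rw [form, map_sum, map_sum, Finset.mul_sum]
    refine Finset.sum_congr rfl fun s _ => ?_
    rw [show monomial s.1 (c ⟨i, s⟩) = C (c ⟨i, s⟩) * monomial s.1 (1 : k) by rw [C_mul_monomial, mul_one],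
      pderiv_C_mul, map_mul, eval_C, mul_assoc]
  have hdA : ∀ i (j : J), eval v (pderiv j.1 (monomial (Finsupp.single j₀ (d i)) (1 : k))) = 0 := fun i j => by
    simp [pderiv_monomial, Finsupp.single_apply, Ne.symm j.2]
  have hdB : ∀ j j' : J, eval v (pderiv j.1 (monomial (Finsupp.single j₀ (d l - 1) + Finsupp.single j'.1 1) (1 : k))) =
      if j' = j then 1 else 0 := fun j j' => by
    have hx : monomial (Finsupp.single j₀ (d l - 1) + Finsupp.single j'.1 1) (1 : k) = X j₀ ^ (d l - 1) * X j'.1 := by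
      rw [X_pow_eq_monomial, X, monomial_mul, mul_one]
    rw [hx]
    rcases eq_or_ne j' j with h | h
    · subst h; simp [pderiv_mul, pderiv_pow, pderiv_X, Pi.single_apply, Ne.symm j'.2, hv]
    · have h' : j'.1 ≠ j.1 := fun e => h (Subtype.ext e)
      simp [pderiv_mul, pderiv_pow, pderiv_X, Pi.single_apply, Ne.symm j.2, h', h]
  have hFr : ∀ p, eval g (Fr p) = if p ∈ Set.range sp then 0 else c p := fun p => by
    simp only [Fr]
    split_ifs with h <;> simp [g]
  have hBv : ∀ j : J, eval g (Bv j) = c (eB j) := fun j => by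
    simp only [Bv, map_neg, map_sum, map_mul, hgL, hFr, dv, hgaeval]
    have hsplit := hf1 j.1
    rw [← Finset.sum_filter_add_sum_filter_not _ (fun p => p ∈ Set.range sp)] at hsplit
    have h2 : (∑ p ∈ Finset.univ.filter (fun p => p ∈ Set.range sp), lam p.1 * c p * eval v (pderiv j.1 (monomial p.2.1 (1 : k)))) = c (eB j) := by
      rw [show Finset.univ.filter (fun p => p ∈ Set.range sp) = Finset.univ.image sp by ext; simp,
        Finset.sum_image fun a _ b _ h => hsp h, Fintype.sum_sum_type]
      simp only [sp, Sum.elim_inl, Sum.elim_inr, eA, eB, hdA, hdB, mul_zero, Finset.sum_const_zero, zero_add, hl,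
        one_mul, mul_ite, mul_one]
      rw [Finset.sum_eq_single j (fun x _ hx => if_neg hx) (by simp), if_pos rfl]
    rw [h2] at hsplit
    rw [Finset.sum_filter] at hsplit
    refine neg_eq_of_add_eq_zero_left (Eq.trans ?_ hsplit)
    congr 1
    exact Finset.sum_congr rfl fun p _ => by split_ifs <;> simp
  have hG : ∀ p, (∀ i, eA i ≠ p) → eval g (G p) = c p := fun p hp => by
    simp only [G, map_add, map_sum, apply_ite (eval g), map_zero, hBv, hFr]
    by_cases hpB : ∃ j, eB j = p
    · obtain ⟨j, rfl⟩ := hpB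
      rw [if_pos ⟨Sum.inr j, rfl⟩, zero_add, Finset.sum_eq_single j]
      · rw [if_pos rfl]
      · intro j' _ hj'
        rw [if_neg]
        exact fun e => hj' (Sum.inr_injective (hsp e))
      · simp
    · push Not at hpB
      rw [if_neg, Finset.sum_eq_zero fun j _ => if_neg (hpB j), add_zero]
      rintro ⟨i | j, rfl⟩
      exacts [hp i rfl, hpB j rfl]
  have hG0 : ∀ i, eval g (G (eA i)) = 0 := fun i => by
    simp only [G, map_add, map_sum, apply_ite (eval g), map_zero, hFr]
    rw [if_pos ⟨Sum.inl i, rfl⟩, zero_add]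
    exact Finset.sum_eq_zero fun j _ => if_neg (fun e => hBA i j e.symm)
  have hAv : ∀ i, eval g (Av i) = c (eA i) := fun i => by
    simp only [Av, map_neg, map_sum, map_mul, ev, hgaeval]
    have h := hf0 i
    rw [← Finset.add_sum_erase _ _ (Finset.mem_univ (⟨Finsupp.single j₀ (d i), Finsupp.degree_single j₀ (d i)⟩ : Exp n (d i)))] at h ⊢
    rw [show eval g (G ⟨i, ⟨Finsupp.single j₀ (d i), Finsupp.degree_single j₀ (d i)⟩⟩) = 0 from hG0 i, zero_mul, zero_add]
    rw [show eval v (monomial (Finsupp.single j₀ (d i)) (1 : k)) = 1 by simp [eval_monomial, hv], mul_one] at h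
    refine neg_eq_of_add_eq_zero_left (Eq.trans ?_ h)
    congr 1
    refine Finset.sum_congr rfl fun s hs => ?_
    congr 1
    refine hG _ fun i' e => (Finset.ne_of_mem_erase hs) ?_
    obtain ⟨rfl, h2⟩ := Sigma.mk.inj_iff.1 e
    exact (eq_of_heq h2).symm
  have hψ : ∀ p, eval g (ψ p) = c p := fun p => by
    simp only [ψ, map_add, map_sum, apply_ite (eval g), map_zero, hAv]
    by_cases hpA : ∃ i, eA i = p
    · obtain ⟨i, rfl⟩ := hpA
      rw [hG0, zero_add, Finset.sum_eq_single i]
      · rw [if_pos rfl]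
      · intro i' _ hi'
        exact if_neg fun e => hi' (congrArg Sigma.fst e)
      · simp
    · push Not at hpA
      rw [hG p hpA, Finset.sum_eq_zero fun i _ => if_neg (hpA i), add_zero]
  have hgen : ∀ q : MvPolynomial (Idx n d) k, eval g (aeval ψ q) = eval c q := fun q => by
    induction q using MvPolynomial.induction_on with
    | C a => simp
    | add p q hp hq => simp only [map_add, hp, hq]
    | mul_X p j hp => simp only [map_mul, aeval_X, hp, hψ, eval_X]
  rw [← hgen, hΦ, map_zero]

end CIGen
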