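import Groth.Agent.GradedCechLib.Chart
import Groth.Agent.CIGenLib.Generic
import Groth.Prelude.Def_LefPen
import Mathlib.AlgebraicGeometry.ProjectiveSpectrum.Proper
import Mathlib

/-!
# The ideal of a hypersurface on a standard chart
-/

set_option autoImplicit false
set_option linter.unusedSectionVars false
set_option linter.style.haveILetI false

universe u

open CategoryTheory CategoryTheory.Limits AlgebraicGeometry TopologicalSpace GradedCechLib MvPolynomial

namespace CIGen

variable {k : Type u} [Field k] {r d : ℕ}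

local notation "P" => CohB1.ProjSpace r k

theorem isSeparated_projSpace : (CohB1.ProjSpace r k).IsSeparated := by
  haveI := Proj.isSeparated (CohB1.polyGrading r k)
  refine ⟨?_⟩
  rw [← terminal.comp_from (show CohB1.ProjSpace r k ⟶ _ from Proj.toSpecZero (CohB1.polyGrading r k))]
  unfold CohB1.ProjSpace
  infer_instance

theorem chart_affine (j : Fin (r + 1)) : IsAffineOpen (LefPen.chart r k j) :=
  Proj.isAffineOpen_basicOpen (CohB1.polyGrading r k) (X j) (X_mem r k j) one_pos

theorem dehom_eq (G : LefPen.Form r k d) (j : Fin (r + 1)) : LefPen.dehom G j = deh r k j G.1 := by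
  refine congrArg (Proj.awayToSection (CohB1.polyGrading r k) (X j)).hom ?_
  refine HomogeneousLocalization.val_injective _ ?_
  rw [val_deh₀_homogeneous r k j G.1 d G.2, HomogeneousLocalization.Away.val_mk]
  rfl

/-- Two charts differ on a form by a power of the change of coordinates. -/
theorem resO_deh_form {p : MvPolynomial (Fin (r + 1)) k} (hp : p.IsHomogeneous d) (i j : Fin (r + 1))
    {W : (P).Opens} (hi : W ≤ LefPen.chart r k i) (hj : W ≤ LefPen.chart r k j) :
    resO r k hi (deh r k i p) = resO r k hj (deh r k j p) * resO r k hi (deh r k i (X j)) ^ d := by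
  let φ := (resO r k hi).comp (deh r k i)
  let ψ := (resO r k hj).comp (deh r k j)
  let c := resO r k hi (deh r k i (X j))
  show φ p = ψ p * c ^ d
  rw [p.as_sum, map_sum, map_sum, Finset.sum_mul]
  refine Finset.sum_congr rfl fun s hs => ?_
  have hdeg : s.degree = d := by
    by_contra hne
    exact mem_support_iff.1 hs (hp.coeff_eq_zero hne)
  have hC : φ (C (coeff s p)) = ψ (C (coeff s p)) := by
    show resO r k hi (deh r k i (C (coeff s p))) = resO r k hj (deh r k j (C (coeff s p)))
    rw [deh_C, deh_C]
    exact (resO_cstOn r k hi _).trans (resO_cstOn r k hj _).symm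
  have hX : ∀ q, φ (X q) = ψ (X q) * c := fun q => resO_deh_X r k i j q hi hj
  rw [monomial_eq, map_mul, map_mul, hC, mul_assoc, Finsupp.prod, map_prod, map_prod]
  congr 1
  simp only [map_pow, hX, mul_pow, Finset.prod_mul_distrib, Finset.prod_pow_eq_pow_sum]
  rw [← hdeg]
  rfl

theorem mem_hypFamily (G : LefPen.Form r k d) (U : (P).affineOpens) (s : Γ(P, U)) :
    s ∈ LefPen.hypFamily G U ↔ ∀ i, resO r k (inf_le_left : U.1 ⊓ LefPen.chart r k i ≤ U.1) s ∈
      Ideal.span {resO r k (inf_le_right : U.1 ⊓ LefPen.chart r k i ≤ LefPen.chart r k i) (LefPen.dehom G i)} := by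
  unfold LefPen.hypFamily
  simp only [Ideal.mem_iInf]
  exact Iff.rfl

/-- The sections locally divisible by the equation form an ideal sheaf. -/
noncomputable def hypData (G : LefPen.Form r k d) : (P).IdealSheafData where
  ideal := LefPen.hypFamily G
  map_ideal_basicOpen := by
    intro U f
    classical
    haveI := isSeparated_projSpace (k := k) (r := r)
    haveI := U.2.isLocalization_basicOpen f
    refine le_antisymm (Ideal.map_le_iff_le_comap.2 fun s hs => ?_) fun s' hs' => ?_
    · replace hs := (mem_hypFamily G _ _).1 hs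
      refine Ideal.mem_comap.2 ((mem_hypFamily G _ _).2 ?_)
      intro i
      have hle : (P).basicOpen f ⊓ LefPen.chart r k i ≤ U.1 ⊓ LefPen.chart r k i :=
        inf_le_inf_right _ ((P).basicOpen_le f)
      have h := Ideal.mem_map_of_mem (resO r k hle) (hs i)
      rw [Ideal.map_span, Set.image_singleton] at h
      change resO r k hle (resO r k inf_le_left s) ∈ Ideal.span {resO r k hle (resO r k inf_le_right (LefPen.dehom G i))} at h
      rw [resO_resO, resO_resO] at h
      change resO r k (inf_le_left : (P).basicOpen f ⊓ LefPen.chart r k i ≤ _) (resO r k ((P).basicOpen_le f) s) ∈ _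
      rw [resO_resO]
      exact h
    obtain ⟨⟨s, ⟨_, l, rfl⟩⟩, hsl⟩ := IsLocalization.surj (Submonoid.powers f) s'
    suffices h : ∃ N, f ^ N * s ∈ LefPen.hypFamily G U by
      obtain ⟨N, hN⟩ := h
      have h1 := Ideal.mem_map_of_mem (algebraMap Γ(P, U) Γ(P, (P).basicOpen f)) hN
      rw [map_mul, ← hsl, mul_comm, mul_assoc, ← map_mul] at h1
      have hu : IsUnit (algebraMap Γ(P, U) Γ(P, (P).basicOpen f) (f ^ l * f ^ N)) :=
        IsLocalization.map_units _ (⟨f ^ l * f ^ N, ⟨l + N, pow_add f l N⟩⟩ : Submonoid.powers f)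
      exact (Ideal.mul_unit_mem_iff_mem _ hu).1 h1
    have key : ∀ i, ∃ N, resO r k (inf_le_left : U.1 ⊓ LefPen.chart r k i ≤ U.1) (f ^ N * s) ∈
        Ideal.span {resO r k (inf_le_right : U.1 ⊓ LefPen.chart r k i ≤ LefPen.chart r k i) (LefPen.dehom G i)} := by
      intro i
      have hW : IsAffineOpen (U.1 ⊓ LefPen.chart r k i) := U.2.inf (chart_affine i)
      let fW := resO r k (inf_le_left : U.1 ⊓ LefPen.chart r k i ≤ U.1) f
      haveI := hW.isLocalization_basicOpen fW
      have hb : (P).basicOpen fW = (P).basicOpen f ⊓ LefPen.chart r k i := by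
        refine ((P).basicOpen_res f (homOfLE (inf_le_left : U.1 ⊓ LefPen.chart r k i ≤ U.1)).op).trans ?_
        exact le_antisymm (le_inf inf_le_right (inf_le_left.trans inf_le_right))
          (le_inf (le_inf (inf_le_left.trans ((P).basicOpen_le f)) inf_le_right) inf_le_left)
      replace hs' := (mem_hypFamily G _ _).1 hs'
      have h := Ideal.mem_map_of_mem (resO r k hb.le) (hs' i)
      erw [Ideal.map_span, Set.image_singleton] at h
      change resO r k hb.le (resO r k inf_le_left s') ∈ Ideal.span {resO r k hb.le (resO r k inf_le_right (LefPen.dehom G i))} at h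
      rw [resO_resO, resO_resO] at h
      have h2 : resO r k (hb.le.trans inf_le_left) (s' * resO r k ((P).basicOpen_le f) (f ^ l)) ∈
          Ideal.span {resO r k (hb.le.trans inf_le_right) (LefPen.dehom G i)} := by
        rw [map_mul]; exact Ideal.mul_mem_right _ _ h
      change resO r k (hb.le.trans inf_le_left) (s' * algebraMap Γ(P, U) Γ(P, (P).basicOpen f) (f ^ l)) ∈ _ at h2
      rw [hsl] at h2
      change resO r k (hb.le.trans inf_le_left) (resO r k ((P).basicOpen_le f) s) ∈ _ at h2
      rw [resO_resO] at h2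
      have h3 : algebraMap Γ(P, U.1 ⊓ LefPen.chart r k i) Γ(P, (P).basicOpen fW) (resO r k inf_le_left s) ∈
          (Ideal.span {resO r k (inf_le_right : U.1 ⊓ LefPen.chart r k i ≤ LefPen.chart r k i) (LefPen.dehom G i)}).map
            (algebraMap Γ(P, U.1 ⊓ LefPen.chart r k i) Γ(P, (P).basicOpen fW)) := by
        rw [Ideal.map_span, Set.image_singleton]
        change resO r k ((P).basicOpen_le fW) (resO r k inf_le_left s) ∈
          Ideal.span {resO r k ((P).basicOpen_le fW) (resO r k inf_le_right (LefPen.dehom G i))}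
        rw [resO_resO, resO_resO]
        exact h2
      obtain ⟨_, ⟨N, rfl⟩, hN⟩ := (IsLocalization.algebraMap_mem_map_algebraMap_iff (Submonoid.powers fW) _ _ _).1 h3
      refine ⟨N, ?_⟩
      rw [map_mul, map_pow]
      exact hN
    choose N hN using key
    refine ⟨∑ i, N i, ?_⟩
    refine (mem_hypFamily G _ _).2 ?_
    intro i
    rw [← Finset.sum_erase_add _ _ (Finset.mem_univ i), pow_add, mul_assoc, map_mul]
    exact Ideal.mul_mem_left _ _ (hN i)

theorem hypIdeal_eq (G : LefPen.Form r k d) : LefPen.hypIdeal G = hypData G :=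
  Scheme.IdealSheafData.ofIdeals_ideal (hypData G)

/-- On a standard chart the hypersurface is cut out by the dehomogenised form. -/
theorem hypIdeal_chart (G : LefPen.Form r k d) (j : Fin (r + 1)) :
    (LefPen.hypIdeal G).ideal ⟨LefPen.chart r k j, chart_affine j⟩ = Ideal.span {deh r k j G.1} := by
  rw [hypIdeal_eq]
  show LefPen.hypFamily G _ = _
  refine le_antisymm (fun s hs => ?_) ?_
  · replace hs := (mem_hypFamily G _ _).1 hs
    have hj : LefPen.chart r k j ≤ LefPen.chart r k j ⊓ LefPen.chart r k j := le_inf le_rfl le_rfl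
    have h := Ideal.mem_map_of_mem (resO r k hj) (hs j)
    rw [Ideal.map_span, Set.image_singleton, dehom_eq] at h
    change resO r k hj (resO r k inf_le_left s) ∈ Ideal.span {resO r k hj (resO r k inf_le_right (deh r k j G.1))} at h
    erw [resO_resO, resO_resO] at h
    simp [resO] at h
    exact h
  · refine (Ideal.span_singleton_le_iff_mem _).2 ?_
    refine (mem_hypFamily G _ _).2 ?_
    intro i
    rw [Ideal.mem_span_singleton, dehom_eq]
    exact ⟨resO r k inf_le_left (deh r k j (X i)) ^ d, resO_deh_form G.2 j i inf_le_left inf_le_right⟩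

end CIGen
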