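import Groth.Agent.CIGenLib.Smooth
import Groth.Agent.WeilLib.Dim
import Mathlib

/-!
# The bad hyperplanes of an affine piece of a variety lie on a hypersurface of the dual space

The hyperplanes tangent to the piece at `v` are spanned by gradients at `v` of equations, so they are
parametrised by an affine space over the piece of dimension at most `n`.
-/

set_option autoImplicit false
set_option linter.unusedSectionVars false
set_option linter.style.haveILetI false

universe u

open MvPolynomial IsLocalRing

namespace CIGen

variable {k : Type u} [Field k] {n : ℕ}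

local notation "S" => MvPolynomial (Fin (n + 1)) k

/-- The linear form with given coefficients. -/
noncomputable def lin (a : Fin (n + 1) → k) : S := ∑ i, C (a i) * X i

/-- The gradient at a point. -/
noncomputable def grad (v : Fin (n + 1) → k) (p : S) : Fin (n + 1) → k := fun i => eval v (pderiv i p)

theorem grad_lin (v a : Fin (n + 1) → k) : grad v (lin a) = a := by
  classical
  funext i
  simp [grad, lin, pderiv_X, Pi.single_apply, eval_sum]

theorem grad_add (v : Fin (n + 1) → k) (p q : S) : grad v (p + q) = grad v p + grad v q := by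
  funext i; simp [grad]

theorem grad_mul (v : Fin (n + 1) → k) (p q : S) :
    grad v (p * q) = eval v q • grad v p + eval v p • grad v q := by
  funext i; simp [grad, pderiv_mul]; ring

theorem grad_zero (v : Fin (n + 1) → k) : grad v (0 : S) = 0 := by funext i; simp [grad]

theorem grad_sq (v : Fin (n + 1) → k) {p : S} (hp : p ∈ RingHom.ker (eval v) ^ 2) : grad v p = 0 := by
  rw [sq] at hp
  refine Submodule.mul_induction_on hp (fun a ha b hb => ?_) (fun a b ha hb => by rw [grad_add, ha, hb, add_zero])
  rw [grad_mul, RingHom.mem_ker.1 ha, RingHom.mem_ker.1 hb, zero_smul, zero_smul, add_zero]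

theorem grad_span {N : ℕ} (v : Fin (n + 1) → k) (f : Fin N → S) (hf : ∀ l, eval v (f l) = 0) {p : S}
    (hp : p ∈ Ideal.span (Set.range f)) : grad v p ∈ Submodule.span k (Set.range fun l => grad v (f l)) := by
  induction hp using Submodule.span_induction with
  | mem x hx => obtain ⟨l, rfl⟩ := hx; exact Submodule.subset_span ⟨l, rfl⟩
  | zero => rw [grad_zero]; exact Submodule.zero_mem _
  | add x y _ _ hx hy => rw [grad_add]; exact Submodule.add_mem _ hx hy
  | smul c x hxm hx =>
    rw [smul_eq_mul, grad_mul]
    have h0 : eval v x = 0 := by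
      have : Ideal.span (Set.range f) ≤ RingHom.ker (eval v) :=
        Ideal.span_le.2 (by rintro _ ⟨l, rfl⟩; exact hf l)
      exact this hxm
    rw [h0, zero_smul, zero_add]
    exact Submodule.smul_mem _ _ hx

variable [IsAlgClosed k] {A : Type u} [CommRing A] [IsDomain A] [Algebra k A]

set_option maxHeartbeats 1000000 in
/-- Independent gradients of equations at a point are at most codimension many. -/
theorem card_le (β : S →ₐ[k] A) (hβ : Function.Surjective β) (v : Fin (n + 1) → k)
    (hv : RingHom.ker β ≤ RingHom.ker (eval v)) {w : ℕ} (g : Fin w → S) (hg : ∀ l, β (g l) = 0)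
    (hli : LinearIndependent k fun l => grad v (g l)) (r : ℕ) (hr : ringKrullDim A = (r : WithBot ℕ∞)) :
    w + r ≤ n + 1 := by
  classical
  haveI : Algebra.FiniteType k A := Algebra.FiniteType.of_surjective β hβ
  let M : Ideal S := RingHom.ker (eval v)
  haveI hMmax : M.IsMaximal := RingHom.ker_isMaximal_of_surjective _ fun x => ⟨C x, eval_C x⟩
  let J : Ideal S := RingHom.ker β.toRingHom
  have hJM : J ≤ M := hv
  haveI : J.IsPrime := RingHom.ker_isPrime _
  have hg0 : ∀ l, eval v (g l) = 0 := fun l => hJM (hg l)
  have h1 := (at_point g v hg0 hli M rfl).2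
  let B := Localization.AtPrime M
  haveI : IsRegularLocalRing B := IsRegularRing.isRegularLocalRing_localization M
  have hdisj : Disjoint (M.primeCompl : Set S) J := Set.disjoint_left.2 fun x hx hxJ => hx (hJM hxJ)
  haveI hJB : (J.map (algebraMap S B)).IsPrime :=
    IsLocalization.isPrime_of_isPrime_disjoint M.primeCompl B J ‹_› hdisj
  have h2 := CatLib.ringKrullDim_quotient_add_height (CommAlgDim.isCM_of_isRegularLocalRing B) (J.map (algebraMap S B))
  have h3 : (w : ℕ∞) ≤ (J.map (algebraMap S B)).height :=
    h1.trans (Ideal.height_mono (Ideal.map_mono (Ideal.span_le.2 (by rintro _ ⟨l, rfl⟩; exact hg l))))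
  have hdim : ringKrullDim (B ⧸ J.map (algebraMap S B)) = (r : WithBot ℕ∞) := by
    obtain ⟨hp, ⟨e⟩⟩ := LiaisonLib.exists_quot_equiv hJM
    haveI := hp
    haveI : (M.map (Ideal.Quotient.mk J)).IsMaximal :=
      Ideal.IsMaximal.map_of_surjective_of_ker_le Ideal.Quotient.mk_surjective (by rwa [Ideal.mk_ker])
    haveI : IsDomain (S ⧸ J) := Ideal.Quotient.isDomain J
    rw [ringKrullDim_eq_of_ringEquiv e,
      IsLocalization.AtPrime.ringKrullDim_eq_height (M.map (Ideal.Quotient.mk J))
        (Localization.AtPrime (M.map (Ideal.Quotient.mk J))),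
      MaxHeight.affine_domain k (S ⧸ J), ← hr]
    exact ringKrullDim_eq_of_ringEquiv (RingHom.quotientKerEquivOfSurjective (f := β.toRingHom) hβ)
  have hB : ringKrullDim B = ((n + 1 : ℕ) : WithBot ℕ∞) := by
    have h := MaxHeight.affine_domain k S M
    rw [MvPolynomial.ringKrullDim_of_isNoetherianRing, ringKrullDim_eq_zero_of_field, zero_add, Nat.card_fin] at h
    rw [IsLocalization.AtPrime.ringKrullDim_eq_height M B]
    exact h
  rw [hB, hdim] at h2
  obtain ⟨t, ht⟩ := ENat.ne_top_iff_exists.1 (Ideal.height_ne_top (Ideal.IsPrime.ne_top hJB))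
  rw [← ht] at h2 h3
  have e2 : r + t = n + 1 := by exact_mod_cast h2
  have e3 : w ≤ t := by exact_mod_cast h3
  omega

set_option maxHeartbeats 1000000 in
/-- Hyperplanes tangent to an affine piece (or containing it) lie on a hypersurface. -/
theorem exists_dual (β : S →ₐ[k] A) (hβ : Function.Surjective β) (j : Fin (n + 1)) (hj : β (X j) = 1) :
    ∃ g : MvPolynomial (Fin (n + 1)) k, g ≠ 0 ∧ ∀ a : Fin (n + 1) → k, eval a g ≠ 0 →
      β (lin a) ≠ 0 ∧ ∀ (m : Ideal A) [m.IsMaximal], β (lin a) ∈ m →
        algebraMap A (Localization.AtPrime m) (β (lin a)) ∉ maximalIdeal (Localization.AtPrime m) ^ 2 := by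
  classical
  haveI : Algebra.FiniteType k A := Algebra.FiniteType.of_surjective β hβ
  obtain ⟨N, f, hf⟩ : ∃ (N : ℕ) (f : Fin N → S), Ideal.span (Set.range f) = RingHom.ker β := by
    obtain ⟨N, f, h⟩ := Submodule.fg_iff_exists_fin_generating_family.1 (IsNoetherian.noetherian (RingHom.ker β))
    exact ⟨N, f, h⟩
  obtain ⟨r, hr, htr⟩ := WeilLib.dim_eq_trdeg k A (FractionRing A)
  -- one polynomial for each set of equations
  have key : ∀ T : Finset (Fin N), T.card + r ≤ n → ∃ g : MvPolynomial (Fin (n + 1)) k, g ≠ 0 ∧
      ∀ (v : Fin (n + 1) → k), RingHom.ker β ≤ RingHom.ker (eval v) → ∀ t : T → k,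
        eval ((∑ l, t l • grad v (f l)) - (∑ l, t l * ∑ q, eval v (pderiv q (f l)) * v q) • Pi.single j 1) g = 0 := by
    intro T hT
    let ψ : Fin (n + 1) → (MvPolynomial T A) := fun i =>
      (∑ l : T, C (β (pderiv i (f l))) * X l) -
        (if i = j then ∑ l : T, X l * ∑ q, C (β (pderiv q (f l) * X q)) else 0)
    have hdep : ¬ AlgebraicIndependent k ψ := fun h => by
      haveI : Algebra.FiniteType k (MvPolynomial T A) := Algebra.FiniteType.trans (inferInstance : Algebra.FiniteType k A) (inferInstance : Algebra.FiniteType A (MvPolynomial T A))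
      obtain ⟨s, hs, hst⟩ := WeilLib.dim_eq_trdeg k (MvPolynomial T A) (FractionRing (MvPolynomial T A))
      have hs' : s = r + T.card := by
        have hh : ringKrullDim (MvPolynomial T A) = ((r + T.card : ℕ) : WithBot ℕ∞) := by
          haveI : IsNoetherianRing A := Algebra.FiniteType.isNoetherianRing k A
          rw [MvPolynomial.ringKrullDim_of_isNoetherianRing, hr, Nat.card_eq_finsetCard]
          push_cast; rfl
        rw [hs] at hh
        exact_mod_cast hh
      have h' := (h.map' (f := IsScalarTower.toAlgHom k (MvPolynomial T A) (FractionRing (MvPolynomial T A))) (IsFractionRing.injective _ _)).lift_cardinalMk_le_trdeg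
      rw [hst] at h'
      simp only [Cardinal.mk_fin, Cardinal.lift_natCast, Nat.cast_le] at h'
      omega
    rw [algebraicIndependent_iff] at hdep
    push Not at hdep
    obtain ⟨g, hg, hg0⟩ := hdep
    refine ⟨g, hg0, fun v hv t => ?_⟩
    -- evaluation at the point
    have hfac : ∀ x y : S, β x = β y → eval v x = eval v y := fun x y h => by
      have := hv (show x - y ∈ RingHom.ker β by rw [RingHom.mem_ker, map_sub, h, sub_self])
      rwa [RingHom.mem_ker, map_sub, sub_eq_zero] at this
    let evA : A →+* k := RingHom.liftOfSurjective β.toRingHom hβ ⟨eval v, hv⟩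
    have hev : ∀ x, evA (β x) = eval v x := fun x => RingHom.liftOfSurjective_comp_apply β.toRingHom hβ ⟨eval v, hv⟩ x
    let E : (MvPolynomial T A) →+* k := eval₂Hom evA t
    have hψ : ∀ i, E (ψ i) =
        ((∑ l, t l • grad v (f l)) - (∑ l, t l * ∑ q, eval v (pderiv q (f l)) * v q) • Pi.single j 1 : Fin (n + 1) → k) i := by
      intro i
      simp only [ψ, E, grad, map_sub, map_sum, map_mul, apply_ite (eval₂Hom evA t), map_zero, eval₂Hom_C, eval₂Hom_X',
        hev, Pi.sub_apply, Finset.sum_apply, Pi.smul_apply, smul_eq_mul, Pi.single_apply, mul_ite, mul_one, mul_zero,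
        eval_X]
      congr 1
      exact Finset.sum_congr rfl fun l _ => mul_comm _ _
    have hk : ∀ c : k, E (algebraMap k (MvPolynomial T A) c) = c := fun c => by
      rw [IsScalarTower.algebraMap_apply k A (MvPolynomial T A)]
      simp only [E, MvPolynomial.algebraMap_eq, eval₂Hom_C]
      rw [← β.commutes c, hev, MvPolynomial.algebraMap_eq, eval_C]
    have hgen : ∀ q : MvPolynomial (Fin (n + 1)) k, E (aeval ψ q) = eval (fun i => E (ψ i)) q := fun q => by
      induction q using MvPolynomial.induction_on with
      | C c => rw [aeval_C, hk, eval_C]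
      | add p q hp hq => simp only [map_add, hp, hq]
      | mul_X p i hp => simp only [map_mul, aeval_X, hp, eval_X]
    have := hgen g
    rw [hg, map_zero, funext hψ] at this
    exact this.symm
  choose g hg0 hg using key
  refine ⟨∏ T : {T : Finset (Fin N) // T.card + r ≤ n}, g T.1 T.2, Finset.prod_ne_zero_iff.2 fun T _ => hg0 _ _, ?_⟩
  intro a ha
  rw [map_prod, Finset.prod_ne_zero_iff] at ha
  -- tangency puts the form in the span of the gradients
  have main : ∀ (m : Ideal A) [m.IsMaximal], β (lin a) ∈ m →
      algebraMap A (Localization.AtPrime m) (β (lin a)) ∉ maximalIdeal (Localization.AtPrime m) ^ 2 := by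
    intro m _ hm hsq
    rw [← Localization.AtPrime.map_eq_maximalIdeal, ← Ideal.map_pow] at hsq
    have hdisj : Disjoint (m.primeCompl : Set A) ↑(m ^ 2) :=
      Set.disjoint_left.2 fun x hx hx2 => hx (Ideal.pow_le_self two_ne_zero hx2)
    have hprim : (m ^ 2).IsPrimary := Ideal.isPrimary_of_isMaximal_radical (by
      rw [Ideal.radical_pow m two_ne_zero, Ideal.IsPrime.radical inferInstance]; infer_instance)
    have hsq' : β (lin a) ∈ m ^ 2 := by
      rw [← IsLocalization.under_map_of_isPrimary_disjoint m.primeCompl (Localization.AtPrime m) hprim hdisj]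
      exact hsq
    haveI : (m.comap β.toRingHom).IsMaximal := Ideal.comap_isMaximal_of_surjective _ hβ
    obtain ⟨v, hv⟩ := exists_point (m.comap β.toRingHom)
    have hJv : RingHom.ker β ≤ RingHom.ker (eval v) := fun x hx => by
      rw [← hv, Ideal.mem_comap]; show β x ∈ m; rw [RingHom.mem_ker.1 hx]; exact m.zero_mem
    have hmap : m = (RingHom.ker (eval v)).map β.toRingHom := by
      rw [← hv]; exact (Ideal.map_comap_of_surjective β.toRingHom hβ m).symm
    have hdec : lin a ∈ RingHom.ker (eval v) ^ 2 ⊔ RingHom.ker β := by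
      have : lin a ∈ ((RingHom.ker (eval v) ^ 2).map β.toRingHom).comap β.toRingHom := by
        rw [Ideal.map_pow, ← hmap]; exact hsq'
      rwa [Ideal.comap_map_of_surjective β.toRingHom hβ, ← RingHom.ker_eq_comap_bot] at this
    obtain ⟨p, hp, q, hq, hpq⟩ := Submodule.mem_sup.1 hdec
    have hfv : ∀ l, eval v (f l) = 0 := fun l => hJv (hf ▸ Ideal.subset_span ⟨l, rfl⟩)
    let u : Option (Fin N) → Fin (n + 1) → k := fun o => o.elim (Pi.single j 1) fun l => grad v (f l)
    have haW : a ∈ Submodule.span k (u '' Set.univ) := by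
      rw [Set.image_univ]
      have : a = grad v q := by rw [← grad_lin v a, ← hpq, grad_add, grad_sq v hp, zero_add]
      rw [this]
      refine Submodule.span_mono ?_ (grad_span v f hfv (hf.symm ▸ hq))
      rintro _ ⟨l, rfl⟩; exact ⟨some l, rfl⟩
    have hnone : LinearIndepOn k u {none} :=
      (linearIndepOn_singleton_iff k).2 (by simp [u, Function.ne_iff, Pi.single_apply])
    obtain ⟨b, -, hjb, hspan, hli⟩ := exists_linearIndepOn_extension hnone (Set.subset_univ _)
    replace haW := Submodule.span_le.2 hspan haW
    let T : Finset (Fin N) := Finset.univ.filter fun l => some l ∈ b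
    have hb : b.toFinset = insert none (T.map ⟨some, Option.some_injective _⟩) := by
      ext o; rcases o with _ | l
      · simp [hjb (Set.mem_singleton _)]
      · simp [T]
    have hT : T.card + r ≤ n := by
      let gens : Option (Fin N) → S := fun o => o.elim (X j - 1) f
      let e : Fin b.toFinset.card ≃ b.toFinset := b.toFinset.equivFin.symm
      have hle := card_le β hβ v hJv (fun i => gens (e i).1) (fun i => by
        rcases (e i).1 with _ | l
        · simp [gens, hj]
        · show β (f l) = 0
          exact (hf ▸ Ideal.subset_span ⟨l, rfl⟩ : f l ∈ RingHom.ker β)) (by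
        have hu : ∀ o, grad v (gens o) = u o := fun o => by
          rcases o with _ | l
          · funext i; simp [gens, u, grad, pderiv_X, Pi.single_apply, eq_comm, apply_ite (eval v)]
          · rfl
        simp only [hu]
        exact hli.linearIndependent.comp (fun i => (⟨(e i).1, Set.mem_toFinset.1 (e i).2⟩ : b))
          (fun x y h => e.injective (Subtype.ext (congrArg (fun z : b => z.1) h)))) r hr
      have hc : b.toFinset.card = T.card + 1 := by
        rw [hb, Finset.card_insert_of_notMem (by simp), Finset.card_map]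
      omega
    obtain ⟨c, t, hat⟩ : ∃ (c : k) (t : T → k), a = c • Pi.single j 1 + ∑ l, t l • grad v (f l) := by
      rw [← Set.coe_toFinset b, hb, Finset.coe_insert, Finset.coe_map, Set.image_insert_eq, ← Set.image_comp,
        Submodule.mem_span_insert] at haW
      obtain ⟨c, z, hz, rfl⟩ := haW
      rw [Set.image_eq_range, Submodule.mem_span_range_iff_exists_fun] at hz
      obtain ⟨t, rfl⟩ := hz
      exact ⟨c, t, rfl⟩
    have h0 : ∑ i, a i * v i = 0 := by
      have : lin a ∈ RingHom.ker (eval v) := by rw [← hv]; exact hm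
      simpa [lin, RingHom.mem_ker] using this
    have hvj : v j = 1 := by
      have : X j - 1 ∈ RingHom.ker (eval v) := hJv (by simp [RingHom.mem_ker, hj])
      simpa [RingHom.mem_ker, sub_eq_zero] using this
    have hc : c = -∑ l, t l * ∑ q, eval v (pderiv q (f l)) * v q := by
      have h1 : ∀ i, a i * v i = c * (Pi.single j 1 : Fin (n + 1) → k) i * v i +
          ∑ l, t l * (eval v (pderiv i (f l)) * v i) := fun i => by
        rw [hat]; simp [grad, add_mul, Finset.sum_mul, mul_assoc]
      simp only [h1, Finset.sum_add_distrib] at h0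
      rw [Finset.sum_comm] at h0
      simp only [← Finset.mul_sum, Pi.single_apply, mul_ite, mul_one, mul_zero, ite_mul, zero_mul, Finset.sum_ite_eq',
        Finset.mem_univ, if_true, hvj] at h0
      linear_combination h0
    refine ha ⟨T, hT⟩ (Finset.mem_univ _) ?_
    have h := hg T hT v hJv t
    rwa [show (∑ l, t l • grad v (f l)) - (∑ l, t l * ∑ q, eval v (pderiv q (f l)) * v q) • Pi.single j 1 = a by
      rw [hat, hc, neg_smul, sub_eq_neg_add]] at h
  refine ⟨fun h => ?_, main⟩
  obtain ⟨m, hm⟩ := Ideal.exists_maximal A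
  haveI := hm
  exact main m (h ▸ m.zero_mem) (by rw [h, map_zero]; exact Submodule.zero_mem _)

end CIGen
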