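import Groth.Agent.CIGenLib.ConeDual
import Groth.Agent.CIGenLib.Hyp
import Groth.Agent.CIGenLib.SmoothPts
import Groth.Agent.FComplLib.Modules
import Groth.Agent.S4666
import Mathlib

/-!
# Transversality of hypersurface sections in terms of the coordinates of the generic point
-/

set_option autoImplicit false
set_option linter.unusedSectionVars false
set_option linter.style.haveILetI false

universe u

open CategoryTheory AlgebraicGeometry TopologicalSpace MvPolynomial IsLocalRing GradedCechLib

namespace CIGen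

/-- Regular local rings cut by one element. -/
theorem quotient_singleton_iff {R : Type u} [CommRing R] [IsRegularLocalRing R] {n : ℕ} (hn : 1 ≤ n)
    (hdim : ringKrullDim R = (n : WithBot ℕ∞)) {z : R} (hz : z ∈ maximalIdeal R) :
    (IsRegularLocalRing (R ⧸ Ideal.span {z}) ∧ ringKrullDim (R ⧸ Ideal.span {z}) = ((n - 1 : ℕ) : WithBot ℕ∞)) ↔
      z ∉ maximalIdeal R ^ 2 := by
  haveI : Nontrivial (R ⧸ Ideal.span {z}) := Ideal.Quotient.nontrivial_iff.2
    (ne_top_of_le_ne_top (Ideal.IsMaximal.ne_top inferInstance) ((Ideal.span_singleton_le_iff_mem _).2 hz))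
  haveI : IsLocalRing (R ⧸ Ideal.span {z}) := IsLocalRing.of_surjective' (Ideal.Quotient.mk _) Ideal.Quotient.mk_surjective
  have hR := IsRegularLocalRing.spanFinrank_maximalIdeal (R := R)
  rw [hdim] at hR
  have hR' : (maximalIdeal R).spanFinrank = n := by exact_mod_cast hR
  constructor
  · rintro ⟨hreg, hd⟩ hz2
    have hq := @IsRegularLocalRing.spanFinrank_maximalIdeal (R ⧸ Ideal.span {z}) _ hreg
    rw [hd] at hq
    have hq' : (maximalIdeal (R ⧸ Ideal.span {z})).spanFinrank = n - 1 := by exact_mod_cast hq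
    have hfg : (maximalIdeal (R ⧸ Ideal.span {z})).FG := IsNoetherian.noetherian _
    have hfin := Submodule.FG.finite_generators hfg
    choose l hl using fun x : (maximalIdeal (R ⧸ Ideal.span {z})).generators => Ideal.Quotient.mk_surjective x.1
    haveI := hfin.fintype
    let L : Ideal R := Ideal.span (Set.range l)
    have hm : maximalIdeal R ≤ L := by
      refine Submodule.le_of_le_smul_of_le_jacobson_bot (IsNoetherian.noetherian _)
        (jacobson_eq_maximalIdeal (⊥ : Ideal R) bot_ne_top).ge ?_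
      intro x hx
      have h1 : Ideal.Quotient.mk (Ideal.span {z}) x ∈ maximalIdeal (R ⧸ Ideal.span {z}) := by
        rw [← IsLocalRing.map_maximalIdeal_of_surjective (Ideal.Quotient.mk (Ideal.span {z})) Ideal.Quotient.mk_surjective]
        exact Ideal.mem_map_of_mem _ hx
      have h2 : maximalIdeal (R ⧸ Ideal.span {z}) = L.map (Ideal.Quotient.mk _) := by
        conv_lhs => rw [← (maximalIdeal (R ⧸ Ideal.span {z})).span_generators]
        rw [Ideal.map_span, ← Set.range_comp]
        congr 1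
        ext w
        exact ⟨fun hw => ⟨⟨w, hw⟩, hl _⟩, fun ⟨y, hy⟩ => hy ▸ by rw [Function.comp_apply, hl]; exact y.2⟩
      rw [h2, ← Ideal.mem_comap, Ideal.comap_map_of_surjective _ Ideal.Quotient.mk_surjective, ← RingHom.ker_eq_comap_bot,
        Ideal.mk_ker] at h1
      rw [smul_eq_mul, ← sq]
      exact sup_le_sup_left ((Ideal.span_singleton_le_iff_mem _).2 hz2) _ h1
    have hL : L ≤ maximalIdeal R := Ideal.span_le.2 (by
      rintro _ ⟨x, rfl⟩
      by_contra hu
      have h1 : IsUnit (Ideal.Quotient.mk (Ideal.span {z}) (l x)) := (not_not.1 hu : IsUnit (l x)).map _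
      rw [hl x] at h1
      exact (IsLocalRing.mem_maximalIdeal _).1 (Submodule.FG.generators_mem _ x.2) h1)
    have h3 := Submodule.spanFinrank_span_le_ncard_of_finite (R := R) (Set.finite_range l)
    rw [show Submodule.span R (Set.range l) = maximalIdeal R from le_antisymm hL hm, hR'] at h3
    have h4 : (Set.range l).ncard ≤ n - 1 := by
      rw [← Set.image_univ]
      refine (Set.ncard_image_le Set.finite_univ).trans ?_
      rw [Set.ncard_univ, Nat.card_coe_set_eq, Submodule.FG.generators_ncard hfg, hq']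
    omega
  · intro hz2
    haveI hreg := CommAlgDim.isRegularLocalRing_quotient_singleton hz hz2
    refine ⟨hreg, ?_⟩
    have h := CommAlgDim.spanFinrank_maximalIdeal_quotient_singleton hz hz2
    rw [← IsRegularLocalRing.spanFinrank_maximalIdeal]
    exact_mod_cast (by omega : (maximalIdeal (R ⧸ Ideal.span {z})).spanFinrank = n - 1)

/-- Tangency seen in the local ring at a point of a chart. -/
theorem mem_sq_iff {k : Type u} [Field k] [IsAlgClosed k] {r N : ℕ} {K : Type u} [Field K] [Algebra k K]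
    {ξ : Fin (r + 1) → K} {F : Fin N → MvPolynomial (Fin (r + 1)) k} {e : Fin N → ℕ} (hF : IsEqn ξ F e)
    {v : Fin (r + 1) → k} (hv : Zero F v) {j : Fin (r + 1)} (hj : v j = 1)
    {A : Type u} [CommRing A] (β : MvPolynomial (Fin (r + 1)) k →+* A) (hβ : Function.Surjective β)
    (hker : RingHom.ker β = chartIdeal ξ j) {G : MvPolynomial (Fin (r + 1)) k} {d : ℕ} (hG : G.IsHomogeneous d)
    (m : Ideal A) [m.IsMaximal] (hm : m.comap β = RingHom.ker (eval v)) :
    (β G ∈ m ↔ eval v G = 0) ∧ (β G ∈ m →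
      (algebraMap A (Localization.AtPrime m) (β G) ∈ maximalIdeal (Localization.AtPrime m) ^ 2 ↔ BadAt F v G)) := by
  classical
  have h0 : β G ∈ m ↔ eval v G = 0 := by rw [← Ideal.mem_comap, hm, RingHom.mem_ker]
  refine ⟨h0, fun hGm => ?_⟩
  have hmap : m = (RingHom.ker (eval v)).map β := by
    rw [← hm]; exact (Ideal.map_comap_of_surjective β hβ m).symm
  have hprim : (m ^ 2).IsPrimary := Ideal.isPrimary_of_isMaximal_radical (by
    rw [Ideal.radical_pow m two_ne_zero, Ideal.IsPrime.radical inferInstance]; infer_instance)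
  have hloc : algebraMap A (Localization.AtPrime m) (β G) ∈ maximalIdeal (Localization.AtPrime m) ^ 2 ↔
      G ∈ RingHom.ker (eval v) ^ 2 ⊔ RingHom.ker β := by
    rw [← Localization.AtPrime.map_eq_maximalIdeal, ← Ideal.map_pow, ← Ideal.mem_comap, ← Ideal.under_def,
      IsLocalization.under_map_of_isPrimary_disjoint m.primeCompl (Localization.AtPrime m) hprim
        (Set.disjoint_left.2 fun x hx hx2 => hx (Ideal.pow_le_self two_ne_zero hx2))]
    conv_lhs => rw [hmap, ← Ideal.map_pow, ← Ideal.mem_comap, Ideal.comap_map_of_surjective β hβ, ← RingHom.ker_eq_comap_bot]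
  rw [hloc]
  constructor
  · intro h
    refine ⟨hv, h0.1 hGm, ?_⟩
    obtain ⟨p, hp, q, hq, hpq⟩ := Submodule.mem_sup.1 h
    have hgr : grad v G = grad v q := by rw [← hpq, grad_add, grad_sq v hp, zero_add]
    obtain ⟨w, hw, x, hx, hwx⟩ := Submodule.mem_sup.1 (chart_grad hF hv hj (hker ▸ hq)).2
    obtain ⟨a, rfl⟩ := Submodule.mem_span_singleton.1 hx
    let φ : (Fin (r + 1) → k) →ₗ[k] k := ∑ q, v q • LinearMap.proj q
    have hw0 : φ w = 0 := by
      have hle : Submodule.span k (Set.range fun l => grad v (F l)) ≤ LinearMap.ker φ := Submodule.span_le.2 (by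
        rintro _ ⟨l, rfl⟩
        have := euler (hF.homog l) v
        rw [hv l, mul_zero] at this
        simpa [φ] using this)
      exact hle hw
    have hG0 : φ (grad v G) = 0 := by
      have := euler hG v
      rw [h0.1 hGm, mul_zero] at this
      simpa [φ] using this
    rw [hgr, ← hwx, map_add, hw0, zero_add] at hG0
    have ha : a = 0 := by simpa [φ, Pi.single_apply, hj] using hG0
    rw [hgr, ← hwx, ha, zero_smul, add_zero]
    exact hw
  · rintro ⟨-, hG0, hgr⟩
    obtain ⟨t, ht⟩ := (Submodule.mem_span_range_iff_exists_fun k).1 hgr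
    let q := ∑ l, C (t l) * F l
    have hq : q ∈ RingHom.ker β := Submodule.sum_mem _ fun l _ => Ideal.mul_mem_left _ _ (hker ▸ mem_chartIdeal hF j l)
    have hgq : grad v q = ∑ l, t l • grad v (F l) := by
      funext i; simp [q, grad, map_sum]
    have htay := taylor v (G - q)
    have hev : eval v (G - q) = 0 := by
      simp [q, hG0, map_sum, show ∀ l, eval v (F l) = 0 from hv]
    have hgz : (fun i => eval v (pderiv i (G - q))) = 0 := by
      funext i
      have := congrFun (hgq.trans ht) i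
      simp only [grad] at this
      simp [map_sub, this]
    rw [hev, hgz, map_zero, map_zero, sub_zero, sub_zero, ← ker_eval] at htay
    rw [show G = (G - q) + q by ring]
    exact Submodule.add_mem_sup htay hq

variable {k : Type u} [Field k] {r : ℕ} {X : Scheme.{u}}

/-- The trace of a chart. -/
noncomputable abbrev chartPre (i : X ⟶ CohB1.ProjSpace r k) (j : Fin (r + 1)) : X.Opens :=
  i ⁻¹ᵁ LefPen.chart r k j

/-- The coordinates on a chart. -/
noncomputable def chartHom (i : X ⟶ CohB1.ProjSpace r k) (j : Fin (r + 1)) :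
    MvPolynomial (Fin (r + 1)) k →+* Γ(X, chartPre i j) :=
  (i.app (LefPen.chart r k j)).hom.comp (deh r k j)

theorem chartHom_surjective (i : X ⟶ CohB1.ProjSpace r k) [IsClosedImmersion i] (j : Fin (r + 1)) :
    Function.Surjective (chartHom i j) :=
  (i.app_surjective (LefPen.chart r k j) (chart_affine j)).comp (deh_surjective r k j)

theorem isIntegral_of_smooth (n : ℕ) (i : X ⟶ CohB1.ProjSpace r k) [IrreducibleSpace X]
    [SmoothOfRelativeDimension n (i ≫ CohB1.ProjSpace.toSpec r k)] : IsIntegral X := by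
  haveI : Smooth (i ≫ CohB1.ProjSpace.toSpec r k) := SmoothOfRelativeDimension.smooth n _
  haveI : ∀ x : X, _root_.IsReduced (X.presheaf.stalk x) := fun x => by
    haveI := (DepthLib.regular_of_smooth_and_conversely (i ≫ CohB1.ProjSpace.toSpec r k) x).1
      (by rw [Scheme.Hom.smoothLocus_eq_top]; trivial)
    haveI := CommAlgDim.isDomain_of_isRegularLocalRing (X.presheaf.stalk x)
    infer_instance
  haveI : AlgebraicGeometry.IsReduced X := isReduced_of_isReduced_stalk X
  exact isIntegral_of_irreducibleSpace_of_isReduced X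

theorem germ_chartHom (i : X ⟶ CohB1.ProjSpace r k) {x : X} {j : Fin (r + 1)} (hx : x ∈ chartPre i j)
    (p : MvPolynomial (Fin (r + 1)) k) :
    X.presheaf.germ (chartPre i j) x hx (chartHom i j p) =
      i.stalkMap x ((CohB1.ProjSpace r k).presheaf.germ (QCohLib.stdOpen r k j) (i x) hx (deh r k j p)) :=
  (Scheme.Hom.germ_stalkMap_apply i (QCohLib.stdOpen r k j) x hx _).symm

theorem germ_resO {y : CohB1.ProjSpace r k} {W U : (CohB1.ProjSpace r k).Opens} (h : W ≤ U) (hy : y ∈ W)
    (s : Γ(CohB1.ProjSpace r k, U)) :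
    (CohB1.ProjSpace r k).presheaf.germ W y hy (resO r k h s) = (CohB1.ProjSpace r k).presheaf.germ U y (h hy) s :=
  TopCat.Presheaf.germ_res_apply (CohB1.ProjSpace r k).presheaf (homOfLE h) y hy s

/-- The local ring of a point of a chart at a maximal ideal. -/
theorem chart_maximal (n : ℕ) (i : X ⟶ CohB1.ProjSpace r k) [IsClosedImmersion i]
    [SmoothOfRelativeDimension n (i ≫ CohB1.ProjSpace.toSpec r k)] (j : Fin (r + 1))
    (m : Ideal Γ(X, chartPre i j)) [m.IsMaximal] :
    ∃ (x : X) (hx : x ∈ chartPre i j), IsClosed ({x} : Set X) ∧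
      (((chart_affine j).preimage i).primeIdealOf ⟨x, hx⟩).asIdeal = m := by
  have hV : IsAffineOpen (chartPre i j) := (chart_affine j).preimage i
  haveI : LocallyOfFiniteType (i ≫ CohB1.ProjSpace.toSpec r k) :=
    haveI : Smooth (i ≫ CohB1.ProjSpace.toSpec r k) := SmoothOfRelativeDimension.smooth n _
    inferInstance
  haveI : JacobsonSpace ↥X := LocallyOfFiniteType.jacobsonSpace (i ≫ CohB1.ProjSpace.toSpec r k)
  let p : Spec Γ(X, chartPre i j) := ⟨m, inferInstance⟩
  have hp : IsClosed ({p} : Set (Spec Γ(X, chartPre i j))) :=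
    (PrimeSpectrum.isClosed_singleton_iff_isMaximal _).2 ‹m.IsMaximal›
  have hx : hV.fromSpec p ∈ chartPre i j := by
    rw [← SetLike.mem_coe, ← hV.range_fromSpec]; exact ⟨p, rfl⟩
  refine ⟨hV.fromSpec p, hx, ?_, ?_⟩
  · have h := hV.fromSpec.isOpenEmbedding.preimage_closedPoints
    have : p ∈ closedPoints (Spec Γ(X, chartPre i j)) := hp
    rw [← h] at this
    exact this
  · have h := hV.fromSpec_primeIdealOf ⟨hV.fromSpec p, hx⟩
    have h2 : hV.primeIdealOf ⟨hV.fromSpec p, hx⟩ = p := hV.fromSpec.isOpenEmbedding.injective h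
    exact congrArg PrimeSpectrum.asIdeal h2

theorem secIdeal_chart (i : X ⟶ CohB1.ProjSpace r k) [IsClosedImmersion i] {d : ℕ} (H : LefPen.Form r k d) (j : Fin (r + 1)) :
    (LefPen.secIdeal i ({H} : Set (LefPen.Form r k d))).ideal ⟨chartPre i j, (chart_affine j).preimage i⟩ =
      Ideal.span {chartHom i j H.1} := by
  rw [LefPen.secIdeal, iSup_singleton,
    Groth.Agent.S4666.ideal_comap_eq _ i ⟨LefPen.chart r k j, chart_affine j⟩ ⟨chartPre i j, (chart_affine j).preimage i⟩ le_rfl,
    hypIdeal_chart]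
  refine (Ideal.map_span _ _).trans (congrArg Ideal.span ((Set.image_singleton).trans (Set.singleton_eq_singleton_iff.2 ?_)))
  exact congrArg (fun φ : Γ(CohB1.ProjSpace r k, LefPen.chart r k j) ⟶ Γ(X, chartPre i j) => φ (deh r k j H.1))
    (Scheme.Hom.appLE_eq_app i)

variable [IsAlgClosed k]

/-- The coordinates of the generic point of an embedded variety. -/
structure IsModel {N : ℕ} {K : Type u} [Field K] [Algebra k K] (n : ℕ) (i : X ⟶ CohB1.ProjSpace r k) [IrreducibleSpace X]
    (ξ : Fin (r + 1) → K) (F : Fin N → MvPolynomial (Fin (r + 1)) k) (e : Fin N → ℕ) : Prop where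
  eqn : IsEqn ξ F e
  dim : ∀ j, ξ j ≠ 0 → ringKrullDim (MvPolynomial (Fin (r + 1)) k ⧸ chartIdeal (k := k) ξ j) = (n : WithBot ℕ∞)
  reg : ∀ j, ξ j ≠ 0 → ∀ (m : Ideal (MvPolynomial (Fin (r + 1)) k ⧸ chartIdeal (k := k) ξ j)) [m.IsMaximal],
    IsRegularLocalRing (Localization.AtPrime m)
  ne : ∀ j, genericPoint X ∈ chartPre i j → ξ j ≠ 0
  mem : ∀ j, ξ j ≠ 0 → genericPoint X ∈ chartPre i j
  ker : ∀ j, genericPoint X ∈ chartPre i j → RingHom.ker (chartHom i j) = chartIdeal (k := k) ξ j

theorem exists_isModel (n : ℕ) (i : X ⟶ CohB1.ProjSpace r k) [IsClosedImmersion i] [IrreducibleSpace X]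
    [SmoothOfRelativeDimension n (i ≫ CohB1.ProjSpace.toSpec r k)] :
    ∃ (K : Type u) (_ : Field K) (_ : Algebra k K) (ξ : Fin (r + 1) → K) (N : ℕ)
      (F : Fin N → MvPolynomial (Fin (r + 1)) k) (e : Fin N → ℕ), IsModel n i ξ F e := by
  classical
  haveI := isIntegral_of_smooth n i
  haveI : LocallyOfFiniteType (i ≫ CohB1.ProjSpace.toSpec r k) :=
    haveI : Smooth (i ≫ CohB1.ProjSpace.toSpec r k) := SmoothOfRelativeDimension.smooth n _
    inferInstance
  have hcl := fun x hx => closedPt_of_smooth (i ≫ CohB1.ProjSpace.toSpec r k) n x hx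
  let η := genericPoint X
  obtain ⟨j0, hj0⟩ := Opens.mem_iSup.mp (show i η ∈ ⨆ j, QCohLib.stdOpen r k j by rw [QCohLib.iSup_stdOpen]; trivial)
  let K : Type u := X.functionField
  let germK : ∀ j, η ∈ chartPre i j → (MvPolynomial (Fin (r + 1)) k →+* K) := fun j hj =>
    (X.presheaf.germ (chartPre i j) η hj).hom.comp (chartHom i j)
  letI : Algebra k K := ((germK j0 hj0).comp MvPolynomial.C).toAlgebra
  let ξ : Fin (r + 1) → K := fun q => germK j0 hj0 (MvPolynomial.X q)
  -- the generic point in the other charts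
  have hγ : ∀ j (hj : η ∈ chartPre i j), ξ j ≠ 0 ∧ ∀ p, germK j hj p = aeval (fun q => ξ q / ξ j) p := by
    intro j hj
    let W := QCohLib.stdOpen r k j0 ⊓ QCohLib.stdOpen r k j
    have hW : i η ∈ W := ⟨hj0, hj⟩
    have hgp : ∀ {l} (hl : η ∈ chartPre i l) (hle : W ≤ QCohLib.stdOpen r k l) p,
        germK l hl p = i.stalkMap η ((CohB1.ProjSpace r k).presheaf.germ W (i η) hW (resO r k hle (deh r k l p))) :=
      fun {l} hl hle p => (germ_chartHom i hl p).trans (congrArg _ (germ_resO hle hW _).symm)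
    have hξj : germK j hj (MvPolynomial.X j0) * ξ j = 1 := by
      show germK j hj (MvPolynomial.X j0) * germK j0 hj0 (MvPolynomial.X j) = 1
      rw [hgp hj inf_le_right, hgp hj0 inf_le_left, ← map_mul, ← map_mul]
      rw [deh_X_inv r k j0 j inf_le_left inf_le_right, map_one, map_one]
    have hne : ξ j ≠ 0 := right_ne_zero_of_mul_eq_one hξj
    refine ⟨hne, fun p => ?_⟩
    have hhom : germK j hj = (aeval (R := k) fun q => ξ q / ξ j).toRingHom := by
      refine MvPolynomial.ringHom_ext (fun c => ?_) fun q => ?_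
      · show germK j hj (C c) = aeval _ (C c)
        rw [aeval_C]
        show germK j hj (C c) = germK j0 hj0 (C c)
        rw [hgp hj inf_le_right, hgp hj0 inf_le_left, deh_C, deh_C, resO_cstOn, resO_cstOn]
      · show germK j hj (MvPolynomial.X q) = aeval _ (MvPolynomial.X q)
        rw [aeval_X, eq_div_iff hne]
        show germK j hj (MvPolynomial.X q) * germK j0 hj0 (MvPolynomial.X j) = germK j0 hj0 (MvPolynomial.X q)
        rw [hgp hj inf_le_right, hgp hj0 inf_le_left, hgp hj0 inf_le_left, ← map_mul, ← map_mul,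
          ← resO_deh_X r k j0 j q inf_le_left inf_le_right]
    rw [hhom]; rfl
  have hmem : ∀ j, ξ j ≠ 0 → η ∈ chartPre i j := by
    intro j hξ
    by_contra hj
    refine hξ ?_
    have hnu : ¬ IsUnit ((CohB1.ProjSpace r k).presheaf.germ (QCohLib.stdOpen r k j0) (i η) hj0 (deh r k j0 (MvPolynomial.X j))) := by
      rw [← Scheme.mem_basicOpen]
      erw [basicOpen_deh_X r k j0 j]
      exact fun h => hj h.2
    show germK j0 hj0 (MvPolynomial.X j) = 0
    by_contra hne
    refine hnu ((isUnit_map_iff (i.stalkMap η).hom _).1 ?_)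
    have : IsUnit (germK j0 hj0 (MvPolynomial.X j)) := IsUnit.mk0 _ hne
    rw [show germK j0 hj0 (MvPolynomial.X j) = _ from germ_chartHom i hj0 (MvPolynomial.X j)] at this
    exact this
  have hker : ∀ j, η ∈ chartPre i j → RingHom.ker (chartHom i j) = chartIdeal (k := k) ξ j := by
    intro j hj
    haveI : Nonempty (chartPre i j) := ⟨⟨η, hj⟩⟩
    ext p
    rw [chartIdeal, RingHom.mem_ker, RingHom.mem_ker, ← (hγ j hj).2 p]
    exact (map_eq_zero_iff _ (germ_injective_of_isIntegral X η hj)).symm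
  obtain ⟨N, F, e, hF⟩ := exists_eqn (k := k) ξ
  refine ⟨K, inferInstance, inferInstance, ξ, N, F, e, ?_⟩
  -- maximal ideals of the charts
  have hmax : ∀ j (m : Ideal Γ(X, chartPre i j)) [m.IsMaximal],
      IsRegularLocalRing (Localization.AtPrime m) ∧ ringKrullDim (Localization.AtPrime m) = (n : WithBot ℕ∞) := by
    intro j m _
    obtain ⟨x, hx, hxc, hxm⟩ := chart_maximal n i j m
    letI := X.presheaf.algebra_section_stalk ⟨x, hx⟩
    haveI : IsLocalization.AtPrime (X.presheaf.stalk x) m :=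
      hxm ▸ ((chart_affine j).preimage i).isLocalization_stalk ⟨x, hx⟩
    let e' : X.presheaf.stalk x ≃+* Localization.AtPrime m := (IsLocalization.algEquiv m.primeCompl _ _).toRingEquiv
    haveI := (hcl x hxc).1
    exact ⟨IsRegularLocalRing.of_ringEquiv e', (ringKrullDim_eq_of_ringEquiv e').symm.trans (hcl x hxc).2⟩
  have hquot : ∀ j, ξ j ≠ 0 → ∀ (m : Ideal (MvPolynomial (Fin (r + 1)) k ⧸ chartIdeal (k := k) ξ j)) [m.IsMaximal],
      IsRegularLocalRing (Localization.AtPrime m) ∧ ringKrullDim (Localization.AtPrime m) = (n : WithBot ℕ∞) := by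
    intro j hξ m _
    let ej : (MvPolynomial (Fin (r + 1)) k ⧸ chartIdeal (k := k) ξ j) ≃+* Γ(X, chartPre i j) :=
      (Ideal.quotEquivOfEq (hker j (hmem j hξ)).symm).trans
        (RingHom.quotientKerEquivOfSurjective (chartHom_surjective i j))
    let m' := m.comap (ej.symm : Γ(X, chartPre i j) →+* _)
    haveI : m'.IsMaximal := Ideal.comap_isMaximal_of_surjective _ ej.symm.surjective
    have hmm : Submonoid.map ej.toMonoidHom m.primeCompl = m'.primeCompl := by
      ext y
      constructor
      · rintro ⟨x, hx, rfl⟩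
        show ¬ ej.symm (ej x) ∈ m
        rwa [RingEquiv.symm_apply_apply]
      · intro hy
        exact ⟨ej.symm y, hy, ej.apply_symm_apply y⟩
    let e' : Localization.AtPrime m ≃+* Localization.AtPrime m' :=
      IsLocalization.ringEquivOfRingEquiv (Localization.AtPrime m) (Localization.AtPrime m') ej hmm
    haveI := (hmax j m').1
    exact ⟨IsRegularLocalRing.of_ringEquiv e'.symm, (ringKrullDim_eq_of_ringEquiv e').trans (hmax j m').2⟩
  refine ⟨hF, fun j hξ => ?_, fun j hξ m _ => (hquot j hξ m).1, fun j hj => (hγ j hj).1, hmem, hker⟩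
  haveI : IsDomain (MvPolynomial (Fin (r + 1)) k ⧸ chartIdeal (k := k) ξ j) := Ideal.Quotient.isDomain _
  obtain ⟨m, hm⟩ := Ideal.exists_maximal (MvPolynomial (Fin (r + 1)) k ⧸ chartIdeal (k := k) ξ j)
  haveI := hm
  rw [← MaxHeight.affine_domain k _ m, ← IsLocalization.AtPrime.ringKrullDim_eq_height m (Localization.AtPrime m)]
  exact (hquot j hξ m).2

theorem closedPt (n : ℕ) (i : X ⟶ CohB1.ProjSpace r k) [IsClosedImmersion i]
    [SmoothOfRelativeDimension n (i ≫ CohB1.ProjSpace.toSpec r k)] {x : X} (hx : IsClosed ({x} : Set X)) :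
    IsRegularLocalRing (X.presheaf.stalk x) ∧ ringKrullDim (X.presheaf.stalk x) = (n : WithBot ℕ∞) :=
  closedPt_of_smooth (i ≫ CohB1.ProjSpace.toSpec r k) n x hx

/-- The kernel of the map of local rings of a section is generated by the equation. -/
theorem ker_stalkMap_sec (i : X ⟶ CohB1.ProjSpace r k) [IsClosedImmersion i] {d : ℕ} (H : LefPen.Form r k d) (j : Fin (r + 1))
    (y : LefPen.Sec i ({H} : Set (LefPen.Form r k d)))
    (hx : (LefPen.secIdeal i ({H} : Set (LefPen.Form r k d))).subschemeι y ∈ chartPre i j) :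
    RingHom.ker ((LefPen.secIdeal i ({H} : Set (LefPen.Form r k d))).subschemeι.stalkMap y).hom =
      Ideal.span {X.presheaf.germ (chartPre i j) ((LefPen.secIdeal i ({H} : Set (LefPen.Form r k d))).subschemeι y) hx
        (chartHom i j H.1)} := by
  rw [FComplLib.ker_stalkMap (LefPen.secIdeal i ({H} : Set (LefPen.Form r k d))).subschemeι y
      ⟨chartPre i j, (chart_affine j).preimage i⟩ hx,
    Scheme.IdealSheafData.ker_subschemeι, secIdeal_chart, Ideal.map_span, Set.image_singleton]

section point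

variable {N : ℕ} {K : Type u} [Field K] [Algebra k K] {ξ : Fin (r + 1) → K} {F : Fin N → MvPolynomial (Fin (r + 1)) k}
  {e : Fin N → ℕ} (n : ℕ) (hn : 1 ≤ n) (i : X ⟶ CohB1.ProjSpace r k) [IsClosedImmersion i] [IrreducibleSpace X]
  [SmoothOfRelativeDimension n (i ≫ CohB1.ProjSpace.toSpec r k)] (hM : IsModel n i ξ F e)
  {d : ℕ} (H : LefPen.Form r k d)

include hn hM in
/-- A point of the section is tangent exactly when the local equation lies in the square of the maximal ideal. -/
theorem secPoint (j : Fin (r + 1)) (y : LefPen.Sec i ({H} : Set (LefPen.Form r k d)))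
    (hx : (LefPen.secIdeal i ({H} : Set (LefPen.Form r k d))).subschemeι y ∈ chartPre i j)
    (hc : IsClosed ({(LefPen.secIdeal i ({H} : Set (LefPen.Form r k d))).subschemeι y} : Set X)) :
    ∃ v, Zero F v ∧ v j = 1 ∧ eval v H.1 = 0 ∧
      (((chart_affine j).preimage i).primeIdealOf ⟨_, hx⟩).asIdeal.comap (chartHom i j) = RingHom.ker (eval v) ∧
      ((IsRegularLocalRing ((LefPen.Sec i ({H} : Set (LefPen.Form r k d))).presheaf.stalk y) ∧
          ringKrullDim ((LefPen.Sec i ({H} : Set (LefPen.Form r k d))).presheaf.stalk y) = ((n - 1 : ℕ) : WithBot ℕ∞)) ↔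
        ¬ BadAt F v H.1) := by
  classical
  have hcl := fun x hx => closedPt n i (x := x) hx
  let I := LefPen.secIdeal i ({H} : Set (LefPen.Form r k d))
  let η := genericPoint X
  have hF := hM.eqn
  have hker := hM.ker
  let hV := (chart_affine j).preimage i
  let m := (hV.primeIdealOf ⟨_, hx⟩).asIdeal
  haveI : m.IsMaximal := hV.primeIdealOf_isMaximal_of_isClosed ⟨_, hx⟩ hc
  haveI : (m.comap (chartHom i j)).IsMaximal := Ideal.comap_isMaximal_of_surjective _ (chartHom_surjective i j)
  obtain ⟨v, hv⟩ := exists_point (m.comap (chartHom i j))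
  have hηj : η ∈ chartPre i j := (genericPoint_spec X).mem_open_set_iff (chartPre i j).isOpen |>.2 ⟨_, trivial, hx⟩
  have hle : chartIdeal ξ j ≤ RingHom.ker (eval v) := by
    rw [← hker j hηj, ← hv]; exact fun p hp => by rw [Ideal.mem_comap, RingHom.mem_ker.1 hp]; exact m.zero_mem
  have hzero := zero_of_chartIdeal_le hF hle
  have hvj : v j = 1 := by
    simpa [RingHom.mem_ker, sub_eq_zero] using hle (X_sub_one_mem ξ (hM.ne j hηj))
  obtain ⟨hmem1, hsq⟩ := mem_sq_iff hF hzero hvj (chartHom i j) (chartHom_surjective i j) (hker j hηj) H.2 m hv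
  letI := X.presheaf.algebra_section_stalk ⟨_, hx⟩
  haveI : IsLocalization.AtPrime (X.presheaf.stalk (I.subschemeι y)) m := hV.isLocalization_stalk ⟨_, hx⟩
  set z := X.presheaf.germ (chartPre i j) (I.subschemeι y) hx (chartHom i j H.1) with hz
  let eq := (Ideal.quotEquivOfEq (ker_stalkMap_sec i H j y hx).symm).trans
    (RingHom.quotientKerEquivOfSurjective (I.subschemeι.stalkMap_surjective y))
  have hzm : z ∈ maximalIdeal (X.presheaf.stalk (I.subschemeι y)) := by
    by_contra hu
    have htop : Ideal.span {z} = ⊤ := Ideal.span_singleton_eq_top.2 (not_not.1 hu)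
    haveI : Subsingleton (X.presheaf.stalk (I.subschemeι y) ⧸ Ideal.span {z}) := Ideal.Quotient.subsingleton_iff.2 htop
    exact not_subsingleton _ eq.symm.toEquiv.subsingleton
  have hsm : chartHom i j H.1 ∈ m :=
    (IsLocalization.AtPrime.to_map_mem_maximal_iff (X.presheaf.stalk (I.subschemeι y)) m _).1 hzm
  refine ⟨v, hzero, hvj, hmem1.1 hsm, hv, ?_⟩
  haveI := (hcl _ hc).1
  rw [← hsq hsm]
  let e' : X.presheaf.stalk (I.subschemeι y) ≃+* Localization.AtPrime m :=
    (IsLocalization.algEquiv m.primeCompl _ _).toRingEquiv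
  have hzz : e' z = algebraMap _ (Localization.AtPrime m) (chartHom i j H.1) :=
    (IsLocalization.algEquiv m.primeCompl (X.presheaf.stalk (I.subschemeι y)) (Localization.AtPrime m)).commutes _
  have hmm : (maximalIdeal (X.presheaf.stalk (I.subschemeι y)) ^ 2).map (e' : _ →+* Localization.AtPrime m) =
      maximalIdeal (Localization.AtPrime m) ^ 2 := by
    rw [Ideal.map_pow, IsLocalRing.map_maximalIdeal_of_surjective (e' : X.presheaf.stalk (I.subschemeι y) →+* Localization.AtPrime m) e'.surjective]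
  have h2 : z ∈ maximalIdeal (X.presheaf.stalk (I.subschemeι y)) ^ 2 ↔
      algebraMap _ (Localization.AtPrime m) (chartHom i j H.1) ∈ maximalIdeal (Localization.AtPrime m) ^ 2 := by
    rw [← hzz, ← hmm]
    exact ⟨fun h => Ideal.mem_map_of_mem _ h, fun h => by
      obtain ⟨w, hw, hwz⟩ := (Ideal.mem_map_iff_of_surjective _ e'.surjective).1 h
      rwa [← e'.injective hwz]⟩
  rw [← h2, ← quotient_singleton_iff hn (hcl _ hc).2 hzm]
  refine and_congr ⟨fun h => ?_, fun h => ?_⟩ (by rw [ringKrullDim_eq_of_ringEquiv eq])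
  · haveI := h; exact IsRegularLocalRing.of_ringEquiv eq.symm
  · haveI := h; exact IsRegularLocalRing.of_ringEquiv eq

include hM in
/-- A zero of the equations and of the form is a closed point of the section. -/
theorem exists_secPoint {j : Fin (r + 1)} {v : Fin (r + 1) → k} (hv : Zero F v) (hvj : v j = 1) (h0 : eval v H.1 = 0) :
    ∃ (y : LefPen.Sec i ({H} : Set (LefPen.Form r k d)))
      (hx : (LefPen.secIdeal i ({H} : Set (LefPen.Form r k d))).subschemeι y ∈ chartPre i j),
      IsClosed ({y} : Set (LefPen.Sec i ({H} : Set (LefPen.Form r k d)))) ∧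
      IsClosed ({(LefPen.secIdeal i ({H} : Set (LefPen.Form r k d))).subschemeι y} : Set X) ∧
      (((chart_affine j).preimage i).primeIdealOf ⟨_, hx⟩).asIdeal.comap (chartHom i j) = RingHom.ker (eval v) := by
  classical
  let I := LefPen.secIdeal i ({H} : Set (LefPen.Form r k d))
  have hF := hM.eqn
  have hξ := ne_zero_of_zero hF hv (j := j) (by rw [hvj]; exact one_ne_zero)
  have hηj := hM.mem j hξ
  haveI : (RingHom.ker (eval v)).IsMaximal := RingHom.ker_isMaximal_of_surjective _ fun x => ⟨C x, eval_C x⟩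
  have hkle : RingHom.ker (chartHom i j) ≤ RingHom.ker (eval v) := hM.ker j hηj ▸ chartIdeal_le hF hv hvj
  haveI : ((RingHom.ker (eval v)).map (chartHom i j)).IsMaximal :=
    Ideal.IsMaximal.map_of_surjective_of_ker_le (chartHom_surjective i j) hkle
  obtain ⟨x, hx, hxc, hxm⟩ := chart_maximal n i j ((RingHom.ker (eval v)).map (chartHom i j))
  have hHm : chartHom i j H.1 ∈ (RingHom.ker (eval v)).map (chartHom i j) :=
    Ideal.mem_map_of_mem _ (RingHom.mem_ker.2 h0)
  have hxs : x ∈ I.support := by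
    rw [I.mem_support_iff_of_mem (U := ⟨chartPre i j, (chart_affine j).preimage i⟩) hx, secIdeal_chart,
      Scheme.zeroLocus_span, Scheme.mem_zeroLocus_iff]
    rintro f rfl
    letI := X.presheaf.algebra_section_stalk ⟨x, hx⟩
    haveI := ((chart_affine j).preimage i).isLocalization_stalk ⟨x, hx⟩
    rw [Scheme.mem_basicOpen _ _ _ hx]
    intro hu
    exact ((IsLocalization.AtPrime.isUnit_to_map_iff (X.presheaf.stalk x) _ _).1 hu) (hxm ▸ hHm)
  obtain ⟨y, hy⟩ : x ∈ Set.range I.subschemeι := by rw [I.range_subschemeι]; exact hxs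
  subst hy
  have hyc : IsClosed ({y} : Set (LefPen.Sec i ({H} : Set (LefPen.Form r k d)))) := by
    have hpre : I.subschemeι ⁻¹' {I.subschemeι y} = {y} := by
      ext w
      exact ⟨fun h => I.subschemeι.isClosedEmbedding.injective h, fun h => h ▸ rfl⟩
    rw [← hpre]; exact hxc.preimage I.subschemeι.continuous
  refine ⟨y, hx, hyc, hxc, ?_⟩
  rw [hxm, Ideal.comap_map_of_surjective _ (chartHom_surjective i j), ← RingHom.ker_eq_comap_bot, sup_eq_left.2 hkle]

end point

/-- Transversality to an embedded smooth variety through the coordinates of its generic point. -/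
theorem exists_model (n : ℕ) (hn : 1 ≤ n) (i : X ⟶ CohB1.ProjSpace r k) [IsClosedImmersion i] [IrreducibleSpace X]
    [SmoothOfRelativeDimension n (i ≫ CohB1.ProjSpace.toSpec r k)] :
    ∃ (K : Type u) (_ : Field K) (_ : Algebra k K) (ξ : Fin (r + 1) → K) (N : ℕ)
      (F : Fin N → MvPolynomial (Fin (r + 1)) k) (e : Fin N → ℕ), IsEqn ξ F e ∧
      (∀ j, ξ j ≠ 0 → ringKrullDim (MvPolynomial (Fin (r + 1)) k ⧸ chartIdeal (k := k) ξ j) = (n : WithBot ℕ∞)) ∧
      (∀ j, ξ j ≠ 0 → ∀ (m : Ideal (MvPolynomial (Fin (r + 1)) k ⧸ chartIdeal (k := k) ξ j)) [m.IsMaximal],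
        IsRegularLocalRing (Localization.AtPrime m)) ∧
      ∀ (d : ℕ) (H : LefPen.Form r k d),
        ¬ LefPen.Transversal k n 1 (LefPen.secToSpec i ({H} : Set (LefPen.Form r k d))) ↔ Bad' F H.1 := by
  classical
  obtain ⟨K, _, _, ξ, N, F, e, hM⟩ := exists_isModel n i
  have hF := hM.eqn
  refine ⟨K, inferInstance, inferInstance, ξ, N, F, e, hF, hM.dim, hM.reg, fun d H => ?_⟩
  set g := LefPen.secToSpec i ({H} : Set (LefPen.Form r k d))
  let I := LefPen.secIdeal i ({H} : Set (LefPen.Form r k d))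
  haveI : LocallyOfFiniteType (i ≫ CohB1.ProjSpace.toSpec r k) :=
    haveI : Smooth (i ≫ CohB1.ProjSpace.toSpec r k) := SmoothOfRelativeDimension.smooth n _
    inferInstance
  haveI : LocallyOfFiniteType g := by
    show LocallyOfFiniteType (I.subschemeι ≫ i ≫ CohB1.ProjSpace.toSpec r k)
    infer_instance
  have hTr : LefPen.Transversal k n 1 g ↔ SmoothOfRelativeDimension (n - 1) g :=
    ⟨fun h => (h.resolve_right fun h' => absurd h'.1 (by omega)).2, fun h => Or.inl ⟨hn, h⟩⟩
  constructor
  · intro hnt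
    by_contra hgood
    refine hnt (hTr.2 (smooth_of_closedPts g (n - 1) fun y hy => ?_))
    have hc : IsClosed ({I.subschemeι y} : Set X) := by
      simpa using I.subschemeι.isClosedEmbedding.isClosedMap _ hy
    obtain ⟨j, hj⟩ := Opens.mem_iSup.mp (show i (I.subschemeι y) ∈ ⨆ j, QCohLib.stdOpen r k j by rw [QCohLib.iSup_stdOpen]; trivial)
    obtain ⟨v, hz, hvj, -, -, hiff⟩ := secPoint n hn i hM H j y hj hc
    exact hiff.2 fun hb => hgood ⟨v, fun h0 => one_ne_zero (α := k) (by rw [← hvj, h0]; rfl), hb⟩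
  · intro hbad hT
    obtain ⟨j, v, hvj, hb⟩ := exists_normalized hF H.2 hbad
    obtain ⟨y, hx, hyc, hxc, hv⟩ := exists_secPoint n i hM H hb.1 hvj hb.2.1
    obtain ⟨v', -, hv'j, -, hv', hiff⟩ := secPoint n hn i hM H j y hx hxc
    rw [hv] at hv'
    have hvv : v' = v := funext fun q => by
      have h1 : MvPolynomial.X q - C (v q) ∈ RingHom.ker (eval v') := hv' ▸ (by simp [RingHom.mem_ker])
      simpa [RingHom.mem_ker, sub_eq_zero] using h1
    subst hvv
    haveI := hTr.1 hT
    exact hiff.1 (closedPt_of_smooth g (n - 1) y hyc) hb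

end CIGen
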