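import Groth.Agent.CIGenLib.Bertini
import Groth.Agent.CIGenLib.Generic
import Mathlib

/-!
# The cone of a point with coordinates in an extension field

A projective variety is given by the homogeneous coordinates of its generic point.  The tangency of
forms is expressed through gradients of homogeneous equations, and agrees with tangency in the
standard charts.
-/

set_option autoImplicit false
set_option linter.unusedSectionVars false
set_option linter.style.haveILetI false

universe u

open MvPolynomial IsLocalRing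

namespace CIGen

variable {k : Type u} [Field k] [IsAlgClosed k] {r : ℕ} {K : Type u} [Field K] [Algebra k K]


/-- The ideal of the affine piece on which the `j`-th coordinate is one. -/
noncomputable def chartIdeal (ξ : Fin (r + 1) → K) (j : Fin (r + 1)) : Ideal (MvPolynomial (Fin (r + 1)) k) :=
  RingHom.ker (aeval (R := k) fun i => ξ i / ξ j)

instance (ξ : Fin (r + 1) → K) (j : Fin (r + 1)) : (chartIdeal (k := k) ξ j).IsPrime := RingHom.ker_isPrime _

/-- Homogeneous equations of the variety. -/
structure IsEqn (ξ : Fin (r + 1) → K) {N : ℕ} (F : Fin N → (MvPolynomial (Fin (r + 1)) k)) (e : Fin N → ℕ) : Prop where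
  homog : ∀ l, (F l).IsHomogeneous (e l)
  vanish : ∀ l, aeval ξ (F l) = 0
  gen : ∀ (m : ℕ) (P : (MvPolynomial (Fin (r + 1)) k)), P.IsHomogeneous m → aeval ξ P = 0 → P ∈ Ideal.span (Set.range F)

theorem exists_eqn (ξ : Fin (r + 1) → K) : ∃ (N : ℕ) (F : Fin N → (MvPolynomial (Fin (r + 1)) k)) (e : Fin N → ℕ), IsEqn ξ F e := by
  classical
  let s : Set (MvPolynomial (Fin (r + 1)) k) := {P | ∃ m, P.IsHomogeneous m ∧ aeval ξ P = 0}
  obtain ⟨T, hT, hTs⟩ := (Submodule.fg_span_iff_fg_span_finset_subset (R := (MvPolynomial (Fin (r + 1)) k)) s).1 (IsNoetherian.noetherian _)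
  refine ⟨T.card, fun l => (T.equivFin.symm l).1, ?_⟩
  choose e he using fun l => hT (T.equivFin.symm l).2
  refine ⟨e, ⟨fun l => (he l).1, fun l => (he l).2, fun m P hP h0 => ?_⟩⟩
  have : P ∈ Submodule.span (MvPolynomial (Fin (r + 1)) k) s := Submodule.subset_span ⟨m, hP, h0⟩
  rw [hTs] at this
  refine Submodule.span_mono ?_ this
  intro x hx
  exact ⟨T.equivFin ⟨x, hx⟩, by simp⟩

theorem aeval_smul {P : (MvPolynomial (Fin (r + 1)) k)} {e : ℕ} (hP : P.IsHomogeneous e) (c : K) (w : Fin (r + 1) → K) :
    aeval (fun i => c * w i) P = c ^ e * aeval w P := by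
  have hh : ∀ w : Fin (r + 1) → K, aeval w P = eval w (MvPolynomial.map (algebraMap k K) P) := fun w => by
    rw [eval_map, aeval_def]
  rw [hh, hh, eval_smul_of_homogeneous (hP.map _)]

theorem grad_smul_vec {P : (MvPolynomial (Fin (r + 1)) k)} {e : ℕ} (hP : P.IsHomogeneous e) (c : k) (v : Fin (r + 1) → k) :
    grad (fun i => c * v i) P = c ^ (e - 1) • grad v P := by
  funext i
  simp only [grad, Pi.smul_apply, smul_eq_mul]
  exact eval_smul_of_homogeneous hP.pderiv c v

theorem euler {P : (MvPolynomial (Fin (r + 1)) k)} {e : ℕ} (hP : P.IsHomogeneous e) (v : Fin (r + 1) → k) :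
    ∑ q, v q * grad v P q = e * eval v P := by
  have h := congrArg (eval v) hP.sum_X_mul_pderiv
  simpa [map_sum, grad, nsmul_eq_mul] using h

variable {N : ℕ}

/-- The point is a zero of the equations. -/
def Zero (F : Fin N → (MvPolynomial (Fin (r + 1)) k)) (v : Fin (r + 1) → k) : Prop := ∀ l, eval v (F l) = 0

/-- The hypersurface `G = 0` is tangent to the variety at `v` (or contains it near `v`). -/
def BadAt (F : Fin N → (MvPolynomial (Fin (r + 1)) k)) (v : Fin (r + 1) → k) (G : (MvPolynomial (Fin (r + 1)) k)) : Prop :=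
  Zero F v ∧ eval v G = 0 ∧ grad v G ∈ Submodule.span k (Set.range fun l => grad v (F l))

/-- The hypersurface is tangent to the variety somewhere. -/
def Bad' (F : Fin N → (MvPolynomial (Fin (r + 1)) k)) (G : (MvPolynomial (Fin (r + 1)) k)) : Prop := ∃ v, v ≠ 0 ∧ BadAt F v G

variable {ξ : Fin (r + 1) → K} {F : Fin N → (MvPolynomial (Fin (r + 1)) k)} {e : Fin N → ℕ}

theorem badAt_smul (hF : IsEqn ξ F e) {G : (MvPolynomial (Fin (r + 1)) k)} {d : ℕ} (hG : G.IsHomogeneous d) {v : Fin (r + 1) → k} {c : k}
    (hc : c ≠ 0) (h : BadAt F v G) : BadAt F (fun i => c * v i) G := by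
  refine ⟨fun l => by rw [eval_smul_of_homogeneous (hF.homog l), h.1 l, mul_zero],
    by rw [eval_smul_of_homogeneous hG, h.2.1, mul_zero], ?_⟩
  rw [grad_smul_vec hG]
  refine Submodule.smul_mem _ _ (Submodule.span_le.2 ?_ h.2.2)
  rintro _ ⟨l, rfl⟩
  show grad v (F l) ∈ _
  rw [← inv_smul_smul₀ (pow_ne_zero (e l - 1) hc) (grad v (F l)), ← grad_smul_vec (hF.homog l)]
  exact Submodule.smul_mem _ _ (Submodule.subset_span ⟨l, rfl⟩)

theorem exists_normalized (hF : IsEqn ξ F e) {G : (MvPolynomial (Fin (r + 1)) k)} {d : ℕ} (hG : G.IsHomogeneous d) (h : Bad' F G) :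
    ∃ (j : Fin (r + 1)) (v : Fin (r + 1) → k), v j = 1 ∧ BadAt F v G := by
  obtain ⟨v, hv, hb⟩ := h
  obtain ⟨j, hj⟩ := Function.ne_iff.1 hv
  exact ⟨j, fun i => (v j)⁻¹ * v i, inv_mul_cancel₀ hj, badAt_smul hF hG (inv_ne_zero hj) hb⟩

theorem mem_chartIdeal (hF : IsEqn ξ F e) (j : Fin (r + 1)) (l : Fin N) : F l ∈ chartIdeal ξ j := by
  rw [chartIdeal, RingHom.mem_ker,
    show (fun i => ξ i / ξ j) = fun i => (ξ j)⁻¹ * ξ i from funext fun i => div_eq_inv_mul _ _,
    aeval_smul (hF.homog l), hF.vanish l, mul_zero]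

theorem X_sub_one_mem (ξ : Fin (r + 1) → K) {j : Fin (r + 1)} (hj : ξ j ≠ 0) : (X j - 1 : (MvPolynomial (Fin (r + 1)) k)) ∈ chartIdeal ξ j := by
  simp [chartIdeal, RingHom.mem_ker, hj]

theorem ne_zero_of_zero (hF : IsEqn ξ F e) {v : Fin (r + 1) → k} (hv : Zero F v) {j : Fin (r + 1)} (hj : v j ≠ 0) :
    ξ j ≠ 0 := fun h => by
  have hle : Ideal.span (Set.range F) ≤ RingHom.ker (eval v) := Ideal.span_le.2 (by rintro _ ⟨l, rfl⟩; exact hv l)
  have := hle (hF.gen 1 (X j) (isHomogeneous_X k j) (by rw [aeval_X, h]))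
  rw [RingHom.mem_ker, eval_X] at this
  exact hj this

/-- Equations of a chart come from homogeneous ones. -/
theorem chart_grad (hF : IsEqn ξ F e) {v : Fin (r + 1) → k} (hv : Zero F v) {j : Fin (r + 1)} (hj : v j = 1) {p : (MvPolynomial (Fin (r + 1)) k)}
    (hp : p ∈ chartIdeal ξ j) :
    eval v p = 0 ∧ grad v p ∈ Submodule.span k (Set.range fun l => grad v (F l)) ⊔ Submodule.span k {Pi.single j 1} := by
  classical
  let D := p.totalDegree
  let P : (MvPolynomial (Fin (r + 1)) k) := ∑ q ∈ Finset.range (D + 1), X j ^ (D - q) * homogeneousComponent q p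
  have hP : P.IsHomogeneous D := IsHomogeneous.sum _ _ _ fun q hq => by
    have h := ((isHomogeneous_X k j).pow (D - q)).mul (homogeneousComponent_isHomogeneous q p)
    rwa [one_mul, Nat.sub_add_cancel (by simpa using Finset.mem_range_succ_iff.1 hq)] at h
  have hξ : ξ j ≠ 0 := ne_zero_of_zero hF hv (by rw [hj]; exact one_ne_zero)
  have hP0 : aeval ξ P = 0 := by
    have : aeval ξ P = ξ j ^ D * aeval (fun i => ξ i / ξ j) p := by
      conv_rhs => rw [← sum_homogeneousComponent p]
      simp only [P, map_sum, map_mul, map_pow, aeval_X, Finset.mul_sum]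
      refine Finset.sum_congr rfl fun q hq => ?_
      have hsc := aeval_smul (homogeneousComponent_isHomogeneous q p) (ξ j) (fun i => ξ i / ξ j)
      rw [show (fun i => ξ j * (ξ i / ξ j)) = ξ from funext fun i => by field_simp] at hsc
      rw [hsc, ← mul_assoc, ← pow_add, Nat.sub_add_cancel (by simpa using Finset.mem_range_succ_iff.1 hq)]
    rw [this, RingHom.mem_ker.1 hp, mul_zero]
  have hmem := hF.gen D P hP hP0
  have hev : eval v P = eval v p := by
    conv_rhs => rw [← sum_homogeneousComponent p]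
    simp [P, map_sum, hj]
    rfl
  have hev0 : eval v P = 0 := by
    have hle : Ideal.span (Set.range F) ≤ RingHom.ker (eval v) := Ideal.span_le.2 (by rintro _ ⟨l, rfl⟩; exact hv l)
    exact hle hmem
  refine ⟨hev ▸ hev0, ?_⟩
  have hgr : grad v P = grad v p + (∑ q ∈ Finset.range (D + 1), ((D - q : ℕ) : k) * eval v (homogeneousComponent q p)) • Pi.single j 1 := by
    funext i
    have hpi : grad v p i = ∑ q ∈ Finset.range (D + 1), grad v (homogeneousComponent q p) i := by
      conv_lhs => rw [← sum_homogeneousComponent p]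
      simp [grad, D]
    rw [Pi.add_apply, hpi]
    simp only [P, grad, map_sum, Pi.add_apply, Pi.smul_apply, smul_eq_mul, pderiv_mul, pderiv_pow, pderiv_X, map_add, map_mul,
      map_natCast, map_pow, eval_X, hj, one_pow, one_mul, mul_one, Pi.single_apply, apply_ite (eval v), map_zero,
      map_one, Finset.sum_add_distrib, Finset.sum_mul, @eq_comm _ i j]
    rw [add_comm]
    congr 1
    exact Finset.sum_congr rfl fun q _ => by split_ifs <;> ring
  have h := Submodule.mem_sup_left (T := Submodule.span k {(Pi.single j 1 : Fin (r + 1) → k)}) (grad_span v F hv hmem)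
  rw [hgr] at h
  have h2 : grad v p = (grad v p + (∑ q ∈ Finset.range (D + 1), ((D - q : ℕ) : k) * eval v (homogeneousComponent q p)) • Pi.single j 1) -
      (∑ q ∈ Finset.range (D + 1), ((D - q : ℕ) : k) * eval v (homogeneousComponent q p)) • (Pi.single j 1 : Fin (r + 1) → k) := by abel
  rw [h2]
  exact Submodule.sub_mem _ h (Submodule.mem_sup_right (Submodule.smul_mem _ _ (Submodule.mem_span_singleton_self _)))

theorem chartIdeal_le (hF : IsEqn ξ F e) {v : Fin (r + 1) → k} (hv : Zero F v) {j : Fin (r + 1)} (hj : v j = 1) :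
    chartIdeal ξ j ≤ RingHom.ker (eval v) := fun _ hp => (chart_grad hF hv hj hp).1

theorem zero_of_chartIdeal_le (hF : IsEqn ξ F e) {v : Fin (r + 1) → k} {j : Fin (r + 1)}
    (h : chartIdeal ξ j ≤ RingHom.ker (eval v)) : Zero F v := fun l => h (mem_chartIdeal hF j l)

/-- Finitely many elements generating the maximal ideal of the local ring give vectors spanning with the gradients. -/
theorem exists_spanning {A : Type u} [CommRing A] [Algebra k A] (β : (MvPolynomial (Fin (r + 1)) k) →ₐ[k] A) (hβ : Function.Surjective β)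
    (v : Fin (r + 1) → k) (hv : RingHom.ker β ≤ RingHom.ker (eval v)) (n : ℕ)
    (hn : ∀ (m : Ideal A) [m.IsMaximal], m.comap β.toRingHom = RingHom.ker (eval v) →
      (maximalIdeal (Localization.AtPrime m)).spanFinrank ≤ n ∧ (maximalIdeal (Localization.AtPrime m)).FG) :
    ∃ u : Finset (Fin (r + 1) → k), u.card ≤ n ∧
      ⊤ ≤ Submodule.span k (u : Set (Fin (r + 1) → k)) ⊔ Submodule.span k (grad v '' (RingHom.ker β : Set (MvPolynomial (Fin (r + 1)) k))) := by
  classical
  let M : Ideal (MvPolynomial (Fin (r + 1)) k) := RingHom.ker (eval v)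
  haveI : M.IsMaximal := RingHom.ker_isMaximal_of_surjective _ fun x => ⟨C x, eval_C x⟩
  let m := M.map β.toRingHom
  have hcm : m.comap β.toRingHom = M := by
    rw [Ideal.comap_map_of_surjective β.toRingHom hβ, ← RingHom.ker_eq_comap_bot, sup_eq_left]
    exact hv
  haveI : m.IsMaximal := Ideal.IsMaximal.map_of_surjective_of_ker_le (f := β.toRingHom) hβ hv
  obtain ⟨hle, hfg⟩ := hn m hcm
  let B := Localization.AtPrime m
  have hgen : (maximalIdeal B).generators.ncard ≤ n := by
    rw [Submodule.FG.generators_ncard hfg]; exact hle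
  have hfin := Submodule.FG.finite_generators hfg
  have hz : ∀ z ∈ maximalIdeal B, ∃ p ∈ M, ∃ c : k, c ≠ 0 ∧
      z * algebraMap A B (β (C c)) - algebraMap A B (β p) ∈ maximalIdeal B ^ 2 := by
    intro z hz
    obtain ⟨⟨x, s⟩, hxs⟩ := IsLocalization.surj m.primeCompl z
    obtain ⟨p, rfl⟩ := hβ x
    obtain ⟨q, hq⟩ := hβ s.1
    have hp : p ∈ M := by
      rw [← hcm, Ideal.mem_comap]
      refine (IsLocalization.AtPrime.to_map_mem_maximal_iff B m (β p)).1 ?_
      rw [← hxs]; exact Ideal.mul_mem_right _ _ hz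
    have hc : eval v q ≠ 0 := fun h0 => s.2 (by
      rw [← hq]
      have : q ∈ m.comap β.toRingHom := by rw [hcm]; exact h0
      exact this)
    refine ⟨p, hp, eval v q, hc, ?_⟩
    rw [← hxs, ← hq, ← mul_sub, ← map_sub, ← map_sub, sq]
    refine Ideal.mul_mem_mul hz ((IsLocalization.AtPrime.to_map_mem_maximal_iff B m _).2 ?_)
    rw [show β (C (eval v q) - q) = β.toRingHom (C (eval v q) - q) from rfl]
    exact Ideal.mem_map_of_mem _ (by simp [M, RingHom.mem_ker])
  choose! p hp c hc hzc using hz
  let u : Finset (Fin (r + 1) → k) := hfin.toFinset.image fun z => grad v (p z)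
  refine ⟨u, Finset.card_image_le.trans (by rw [← Set.ncard_eq_toFinset_card _ hfin]; exact hgen), ?_⟩
  let I : Ideal A := (Ideal.span ((linAt v) '' (u : Set (Fin (r + 1) → k)))).map β.toRingHom ⊔ m ^ 2
  have hIm : I ≤ m := sup_le (Ideal.map_mono (Ideal.span_le.2 (by
    rintro _ ⟨w, -, rfl⟩
    rw [SetLike.mem_coe, show M = RingHom.ker (eval v) from rfl, ker_eval]; exact linAt_mem _ _))) (Ideal.pow_le_self two_ne_zero)
  have hrad : I.radical = m := le_antisymm ((Ideal.radical_mono hIm).trans (Ideal.IsPrime.radical inferInstance).le)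
    (fun x hx => ⟨2, Ideal.mem_sup_right (Ideal.pow_mem_pow hx 2)⟩)
  have hprim : I.IsPrimary := Ideal.isPrimary_of_isMaximal_radical (by rw [hrad]; infer_instance)
  have hmap : (maximalIdeal B) ≤ I.map (algebraMap A B) := by
    rw [← (maximalIdeal B).span_generators]
    refine Submodule.span_le.2 fun z hz => ?_
    have hzm : z ∈ maximalIdeal B := Submodule.FG.generators_mem _ hz
    have hsq : maximalIdeal B ^ 2 ≤ I.map (algebraMap A B) := by
      rw [← Localization.AtPrime.map_eq_maximalIdeal, ← Ideal.map_pow]; exact Ideal.map_mono le_sup_right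
    have hlin : β (p z) ∈ I := by
      have ht := taylor v (p z)
      rw [RingHom.mem_ker.1 (hp z hzm), map_zero, sub_zero, ← ker_eval] at ht
      have h1 : β.toRingHom (p z - linAt v (grad v (p z))) ∈ m ^ 2 := by
        rw [← Ideal.map_pow]; exact Ideal.mem_map_of_mem _ ht
      have h2 : β.toRingHom (linAt v (grad v (p z))) ∈ (Ideal.span ((linAt v) '' (u : Set (Fin (r + 1) → k)))).map β.toRingHom :=
        Ideal.mem_map_of_mem _ (Ideal.subset_span ⟨_, Finset.mem_image_of_mem _ (hfin.mem_toFinset.2 hz), rfl⟩)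
      have := add_mem (Ideal.mem_sup_left h2) (Ideal.mem_sup_right (T := m ^ 2) h1)
      rw [← map_add, add_sub_cancel] at this
      exact this
    have hu : IsUnit (algebraMap A B (β (C (c z)))) :=
      (((isUnit_iff_ne_zero.2 (hc z hzm)).map C).map β).map _
    rw [SetLike.mem_coe, ← Ideal.unit_mul_mem_iff_mem _ hu, mul_comm]
    exact (Submodule.sub_mem_iff_left _ (Ideal.mem_map_of_mem _ hlin)).1 (hsq (hzc z hzm))
  have hmI : m ≤ I := by
    rw [← IsLocalization.under_map_of_isPrimary_disjoint m.primeCompl B hprim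
      (Set.disjoint_left.2 fun x hx hxI => hx (hIm hxI))]
    intro x hx
    exact hmap ((IsLocalization.AtPrime.to_map_mem_maximal_iff B m x).2 hx)
  have hMle : M ≤ Ideal.span ((linAt v) '' (u : Set (Fin (r + 1) → k))) ⊔ M ^ 2 ⊔ RingHom.ker β.toRingHom := by
    intro x hx
    have h1 : β.toRingHom x ∈ (Ideal.span ((linAt v) '' (u : Set (Fin (r + 1) → k))) ⊔ M ^ 2).map β.toRingHom := by
      rw [Ideal.map_sup, Ideal.map_pow]
      exact hmI (Ideal.mem_map_of_mem _ hx)
    rw [← Ideal.mem_comap, Ideal.comap_map_of_surjective β.toRingHom hβ, ← RingHom.ker_eq_comap_bot] at h1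
    exact h1
  intro w _
  rw [pi_eq_sum_univ' w]
  refine Submodule.sum_mem _ fun q _ => Submodule.smul_mem _ _ ?_
  have hq : (X q - C (v q) : (MvPolynomial (Fin (r + 1)) k)) ∈ M := by simp [M, RingHom.mem_ker]
  obtain ⟨a, ha, b, hb, hab⟩ := Submodule.mem_sup.1 (hMle hq)
  obtain ⟨a1, ha1, a2, ha2, rfl⟩ := Submodule.mem_sup.1 ha
  have hgq : grad v (X q - C (v q) : (MvPolynomial (Fin (r + 1)) k)) = Pi.single q 1 := by
    funext i; simp [grad, pderiv_X, Pi.single_apply, eq_comm, apply_ite (eval v)]
  rw [← hgq, ← hab, grad_add, grad_add, grad_sq v ha2, add_zero]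
  refine Submodule.add_mem _ (Submodule.mem_sup_left ?_) (Submodule.mem_sup_right (Submodule.subset_span ⟨b, hb, rfl⟩))
  have hsp : ∀ x ∈ Ideal.span ((linAt v) '' (u : Set (Fin (r + 1) → k))),
      grad v x ∈ Submodule.span k (u : Set (Fin (r + 1) → k)) ∧ eval v x = 0 := fun x hx => by
    induction hx using Submodule.span_induction with
    | mem x hx =>
      obtain ⟨w', hw', rfl⟩ := hx
      refine ⟨?_, ?_⟩
      · rw [show grad v (linAt v w') = w' from funext fun i => by
          simp [grad, linAt, Fintype.linearCombination_apply, pderiv_X, Pi.single_apply, smul_eq_C_mul, apply_ite (eval v), eq_comm]]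
        exact Submodule.subset_span hw'
      · have := linAt_mem v w'; rwa [← ker_eval] at this
    | zero => exact ⟨by rw [grad_zero]; exact Submodule.zero_mem _, map_zero _⟩
    | add x y _ _ hx hy => exact ⟨by rw [grad_add]; exact Submodule.add_mem _ hx.1 hy.1, by rw [map_add, hx.2, hy.2, add_zero]⟩
    | smul a x _ hx =>
      rw [smul_eq_mul]
      exact ⟨by rw [grad_mul, hx.2, zero_smul, zero_add]; exact Submodule.smul_mem _ _ hx.1, by rw [map_mul, hx.2, mul_zero]⟩
  exact (hsp a1 ha1).1

/-- The gradients of the equations span a space of dimension the codimension. -/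
theorem finrank_grad (hF : IsEqn ξ F e) (n : ℕ)
    (hdim : ∀ j, ξ j ≠ 0 → ringKrullDim ((MvPolynomial (Fin (r + 1)) k) ⧸ chartIdeal (k := k) ξ j) = (n : WithBot ℕ∞))
    (hreg : ∀ j, ξ j ≠ 0 → ∀ (m : Ideal ((MvPolynomial (Fin (r + 1)) k) ⧸ chartIdeal (k := k) ξ j)) [m.IsMaximal],
      IsRegularLocalRing (Localization.AtPrime m))
    {v : Fin (r + 1) → k} (hv : Zero F v) (h0 : v ≠ 0) :
    Module.finrank k (Submodule.span k (Set.range fun l => grad v (F l))) + n = r := by
  classical
  -- pass to a normalised point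
  suffices H : ∀ (j : Fin (r + 1)) (v : Fin (r + 1) → k), Zero F v → v j = 1 →
      Module.finrank k (Submodule.span k (Set.range fun l => grad v (F l))) + n = r by
    obtain ⟨j, hj⟩ := Function.ne_iff.1 h0
    set c := (v j)⁻¹ with hc
    have hc0 : c ≠ 0 := inv_ne_zero hj
    have h := H j (fun i => c * v i) (fun l => by rw [eval_smul_of_homogeneous (hF.homog l), hv l, mul_zero])
      (inv_mul_cancel₀ hj)
    have he : Submodule.span k (Set.range fun l => grad (fun i => c * v i) (F l)) =
        Submodule.span k (Set.range fun l => grad v (F l)) := by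
      refine le_antisymm (Submodule.span_le.2 ?_) (Submodule.span_le.2 ?_)
      · rintro _ ⟨l, rfl⟩
        show grad (fun i => c * v i) (F l) ∈ _
        rw [grad_smul_vec (hF.homog l)]
        exact Submodule.smul_mem _ _ (Submodule.subset_span ⟨l, rfl⟩)
      · rintro _ ⟨l, rfl⟩
        show grad v (F l) ∈ _
        rw [← inv_smul_smul₀ (pow_ne_zero (e l - 1) hc0) (grad v (F l)), ← grad_smul_vec (hF.homog l)]
        exact Submodule.smul_mem _ _ (Submodule.subset_span ⟨l, rfl⟩)
    rwa [he] at h
  intro j v hv hj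
  set W := Submodule.span k (Set.range fun l => grad v (F l)) with hW
  have hξ := ne_zero_of_zero hF hv (j := j) (by rw [hj]; exact one_ne_zero)
  have hle := chartIdeal_le hF hv hj
  let β : (MvPolynomial (Fin (r + 1)) k) →ₐ[k] (MvPolynomial (Fin (r + 1)) k) ⧸ chartIdeal (k := k) ξ j := Ideal.Quotient.mkₐ k _
  have hker : RingHom.ker β = chartIdeal ξ j := Ideal.mk_ker
  haveI : IsDomain ((MvPolynomial (Fin (r + 1)) k) ⧸ chartIdeal (k := k) ξ j) := Ideal.Quotient.isDomain _
  -- the extra equation is transversal to the cone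
  have hej : (Pi.single j 1 : Fin (r + 1) → k) ∉ W := fun h => by
    let φ : (Fin (r + 1) → k) →ₗ[k] k := ∑ q, v q • LinearMap.proj q
    have hW0 : W ≤ LinearMap.ker φ := Submodule.span_le.2 (by
      rintro _ ⟨l, rfl⟩
      have := euler (hF.homog l) v
      rw [hv l, mul_zero] at this
      simpa [φ] using this)
    have := hW0 h
    simp [φ, Pi.single_apply, hj] at this
  have hsum : Module.finrank k ↥(W ⊔ Submodule.span k {(Pi.single j 1 : Fin (r + 1) → k)}) = Module.finrank k W + 1 := by
    have hi : W ⊓ Submodule.span k {(Pi.single j 1 : Fin (r + 1) → k)} = ⊥ := by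
      rw [eq_bot_iff]
      rintro x ⟨hx1, hx2⟩
      obtain ⟨a, rfl⟩ := Submodule.mem_span_singleton.1 hx2
      rcases eq_or_ne a 0 with rfl | ha
      · simp
      · exact absurd (by simpa [ha] using Submodule.smul_mem _ a⁻¹ hx1) hej
    have h := Submodule.finrank_sup_add_finrank_inf_eq W (Submodule.span k {(Pi.single j 1 : Fin (r + 1) → k)})
    rw [hi, finrank_bot, add_zero, finrank_span_singleton (by simp [Function.ne_iff, Pi.single_apply])] at h
    exact h
  refine le_antisymm ?_ ?_
  · -- at most the codimension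
    let gens : Option (Fin N) → (MvPolynomial (Fin (r + 1)) k) := fun o => o.elim (X j - 1) F
    obtain ⟨b, hbt, hspan, hli⟩ := exists_linearIndependent k (Set.range fun o => grad v (gens o))
    have hfin : b.Finite := (Set.finite_range _).subset hbt
    haveI := hfin.fintype
    choose o ho using fun x : b => hbt x.2
    have hgens : ∀ o, gens o ∈ chartIdeal ξ j := fun o => by
      rcases o with _ | l
      exacts [X_sub_one_mem ξ hξ, mem_chartIdeal hF j l]
    have hcard := card_le β Ideal.Quotient.mk_surjective v (by rw [hker]; exact hle)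
      (fun i : Fin (Fintype.card b) => gens (o ((Fintype.equivFin b).symm i)))
      (fun i => Ideal.Quotient.eq_zero_iff_mem.2 (hgens _)) (by
        simp only [ho]
        exact hli.comp _ (Fintype.equivFin b).symm.injective) n (hdim j hξ)
    have hWle : W ⊔ Submodule.span k {(Pi.single j 1 : Fin (r + 1) → k)} ≤ Submodule.span k b := by
      rw [hspan]
      refine sup_le (Submodule.span_mono (by rintro _ ⟨l, rfl⟩; exact ⟨some l, rfl⟩)) (Submodule.span_le.2 ?_)
      rintro _ rfl
      refine Submodule.subset_span ⟨none, ?_⟩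
      funext i
      simp [gens, grad, pderiv_X, Pi.single_apply, eq_comm, apply_ite (eval v)]
    have h1 := Submodule.finrank_mono hWle
    rw [hsum] at h1
    have h2 : Module.finrank k (Submodule.span k b) ≤ Fintype.card b := by
      rw [← Set.toFinset_card]; exact finrank_span_le_card b
    omega
  · -- at least the codimension
    obtain ⟨u, hu, htop⟩ := exists_spanning β Ideal.Quotient.mk_surjective v (by rw [hker]; exact hle) n fun m _ _ => by
      haveI : IsRegularLocalRing (Localization.AtPrime m) := hreg j hξ m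
      refine ⟨?_, IsNoetherian.noetherian _⟩
      have h := @IsRegularLocalRing.spanFinrank_maximalIdeal (Localization.AtPrime m) _ (hreg j hξ m)
      rw [IsLocalization.AtPrime.ringKrullDim_eq_height m (Localization.AtPrime m),
        MaxHeight.affine_domain k ((MvPolynomial (Fin (r + 1)) k) ⧸ chartIdeal (k := k) ξ j), hdim j hξ] at h
      exact_mod_cast h.le
    have hsub : Submodule.span k (grad v '' (RingHom.ker β : Set (MvPolynomial (Fin (r + 1)) k))) ≤ W ⊔ Submodule.span k {Pi.single j 1} := by
      refine Submodule.span_le.2 ?_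
      rintro _ ⟨p, hp, rfl⟩
      exact (chart_grad hF hv hj (hker ▸ hp)).2
    have h1 := Submodule.finrank_mono (htop.trans (sup_le_sup_left hsub _))
    rw [finrank_top, Module.finrank_fin_fun] at h1
    have h2 := Submodule.finrank_add_le_finrank_add_finrank (Submodule.span k (u : Set (Fin (r + 1) → k))) (W ⊔ Submodule.span k {Pi.single j 1})
    have h3 : Module.finrank k (Submodule.span k (u : Set (Fin (r + 1) → k))) ≤ n := (finrank_span_finset_le_card u).trans hu
    rw [hsum] at h2
    omega

end CIGen
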