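import Mathlib.RingTheory.Nullstellensatz
import Mathlib.RingTheory.MvPolynomial.Homogeneous
import Mathlib.LinearAlgebra.Matrix.NonsingularInverse
import Mathlib.Data.Finsupp.Weight
import Groth.Agent.CIGenLib.Generic
import Mathlib.Tactic

/-!
# Elimination: systems of forms without a common nontrivial zero form an open set
-/

set_option autoImplicit false
set_option linter.unusedSectionVars false

universe u

open MvPolynomial

namespace CIGen

variable {k : Type u} [Field k] [IsAlgClosed k] {n : ℕ}

theorem exists_monomial_mem {ι : Type*} (p : ι → MvPolynomial (Fin (n + 1)) k)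
    (h : ∀ v, (∀ l, eval v (p l) = 0) → v = 0) :
    ∃ D, ∀ s : Exp n D, monomial s.1 (1 : k) ∈ Ideal.span (Set.range p) := by
  classical
  have hX : ∀ i, X i ∈ (Ideal.span (Set.range p)).radical := fun i => by
    rw [← vanishingIdeal_zeroLocus_eq_radical (K := k), mem_vanishingIdeal_iff]
    intro v hv
    rw [mem_zeroLocus_iff] at hv
    have := h v fun l => by simpa using hv (p l) (Ideal.subset_span ⟨l, rfl⟩)
    simp [this]
  choose m hm using hX
  refine ⟨(∑ i, m i) + 1, fun s => ?_⟩
  obtain ⟨i, hi⟩ : ∃ i, m i ≤ s.1 i := by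
    by_contra hc
    push Not at hc
    have h1 : ∑ i, s.1 i = (∑ i, m i) + 1 := by
      rw [← Finsupp.degree_eq_sum]; exact s.2
    have h2 : ∑ i, s.1 i ≤ ∑ i, m i := Finset.sum_le_sum fun i _ => (hc i).le
    omega
  have : monomial s.1 (1 : k) = monomial (s.1 - Finsupp.single i (m i)) 1 * X i ^ m i := by
    rw [X_pow_eq_monomial, monomial_mul, one_mul, tsub_add_cancel_of_le (Finsupp.single_le_iff.2 hi)]
  rw [this]
  exact Ideal.mul_mem_left _ _ (hm i)

/-- The members of a polynomial family of systems of forms having no common nontrivial zero are open. -/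
theorem exists_open_no_zero {σ : Type*} {ι : Type*} [Fintype ι] (E : ι → MvPolynomial (Fin (n + 1)) (MvPolynomial σ k))
    (e : ι → ℕ) (hE : ∀ l, (E l).IsHomogeneous (e l)) (a : σ → k)
    (h : ∀ v, (∀ l, eval v (MvPolynomial.map (eval a) (E l)) = 0) → v = 0) :
    ∃ Φ : MvPolynomial σ k, eval a Φ ≠ 0 ∧
      ∀ b, eval b Φ ≠ 0 → ∀ v, (∀ l, eval v (MvPolynomial.map (eval b) (E l)) = 0) → v = 0 := by
  classical
  obtain ⟨D, hD⟩ := exists_monomial_mem (fun l => MvPolynomial.map (eval a) (E l)) h
  choose co hco using fun s : Exp n D => Submodule.mem_span_range_iff_exists_fun (MvPolynomial (Fin (n + 1)) k) |>.1 (hD s)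
  let co' : Exp n D → ι → MvPolynomial (Fin (n + 1)) (MvPolynomial σ k) := fun s l =>
    if e l ≤ D then MvPolynomial.map C (homogeneousComponent (D - e l) (co s l)) else 0
  let comb : Exp n D → MvPolynomial (Fin (n + 1)) (MvPolynomial σ k) := fun s => ∑ l, co' s l * E l
  have hhom : ∀ s, (comb s).IsHomogeneous D := fun s => IsHomogeneous.sum _ _ _ fun l _ => by
    simp only [co']
    split_ifs with hl
    · have h1 := ((homogeneousComponent_isHomogeneous (D - e l) (co s l)).map C).mul (hE l)
      rwa [Nat.sub_add_cancel hl] at h1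
    · rw [zero_mul]; exact isHomogeneous_zero _ _ _
  have hat : ∀ s, MvPolynomial.map (eval a) (comb s) = monomial s.1 (1 : k) := fun s => by
    have h1 := congrArg (homogeneousComponent D) (hco s)
    rw [map_sum, homogeneousComponent_of_mem ((mem_homogeneousSubmodule _ _).2 (isHomogeneous_monomial (1 : k) s.2)), if_pos rfl] at h1
    rw [← h1, map_sum]
    refine Finset.sum_congr rfl fun l _ => ?_
    have hl' : (MvPolynomial.map (eval a) (E l)).IsHomogeneous (e l) := (hE l).map _
    rw [map_mul, smul_eq_mul]
    simp only [co']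
    split_ifs with hl
    · rw [map_map, show (eval a).comp C = RingHom.id k by ext x; simp, map_id]
      conv_rhs => rw [← sum_homogeneousComponent (co s l), Finset.sum_mul, map_sum]
      simp only [fun q => (homogeneousComponent_of_mem
        ((mem_homogeneousSubmodule _ _).2 ((homogeneousComponent_isHomogeneous q (co s l)).mul hl')) :
          homogeneousComponent D _ = _)]
      rw [Finset.sum_eq_single (D - e l)]
      · rw [if_pos (by omega)]
      · intro q _ hq; exact if_neg (by omega)
      · intro hq
        rw [homogeneousComponent_eq_zero _ _ (by simp only [Finset.mem_range] at hq; omega), zero_mul, ite_self]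
    · rw [map_zero, zero_mul]
      conv_rhs => rw [← sum_homogeneousComponent (co s l), Finset.sum_mul, map_sum]
      refine (Finset.sum_eq_zero fun q _ => ?_).symm
      rw [homogeneousComponent_of_mem ((mem_homogeneousSubmodule _ _).2 ((homogeneousComponent_isHomogeneous q (co s l)).mul hl')),
        if_neg (by omega)]
  let M : Matrix (Exp n D) (Exp n D) (MvPolynomial σ k) := fun s s' => coeff s.1 (comb s')
  refine ⟨M.det, ?_, fun b hb v hv => ?_⟩
  · rw [RingHom.map_det]
    have : (eval a).mapMatrix M = 1 := by
      ext s s'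
      rw [RingHom.mapMatrix_apply, Matrix.map_apply, show M s s' = coeff s.1 (comb s') from rfl, ← coeff_map, hat,
        coeff_monomial, Matrix.one_apply]
      exact if_congr ⟨fun e => Subtype.ext e.symm, fun e => congrArg Subtype.val e.symm⟩ rfl rfl
    rw [this, Matrix.det_one]; exact one_ne_zero
  rw [RingHom.map_det] at hb
  -- the monomials of degree `D` are recovered from the combinations
  set Mb := (eval b).mapMatrix M with hMb
  have hlin : ∀ s' : Exp n D, ∑ s, monomial s.1 (Mb s s') = MvPolynomial.map (eval b) (comb s') := fun s' => by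
    ext t
    simp only [coeff_sum, coeff_monomial, coeff_map]
    by_cases ht : t.degree = D
    · rw [Finset.sum_eq_single (⟨t, ht⟩ : Exp n D)]
      · rw [if_pos rfl]; rfl
      · intro x _ hx; exact if_neg fun e => hx (Subtype.ext e)
      · simp
    · rw [(hhom s').coeff_eq_zero ht, map_zero]
      exact Finset.sum_eq_zero fun x _ => if_neg fun (e : x.1 = t) => ht (e ▸ x.2)
  have hmon : ∀ s' : Exp n D, ∑ s, Mb s s' * eval v (monomial s.1 (1 : k)) = 0 := fun s' => by
    have h1 := congrArg (eval v) (hlin s')
    simp only [comb, map_sum, map_mul] at h1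
    rw [Finset.sum_eq_zero (s := Finset.univ) (f := fun l => eval v (MvPolynomial.map (eval b) (co' s' l)) * eval v (MvPolynomial.map (eval b) (E l)))
      (fun l _ => by rw [hv l, mul_zero])] at h1
    rw [← h1]
    exact Finset.sum_congr rfl fun s _ => by simp [eval_monomial]
  have hw : (fun s : Exp n D => eval v (monomial s.1 (1 : k))) = 0 :=
    Matrix.eq_zero_of_vecMul_eq_zero hb (funext fun s' => by
      simpa [Matrix.vecMul, dotProduct, mul_comm] using hmon s')
  funext i
  have := congrFun hw ⟨Finsupp.single i D, Finsupp.degree_single i D⟩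
  simp only [eval_monomial, one_mul, Finsupp.prod_single_index, pow_zero, Pi.zero_apply] at this
  exact pow_eq_zero_iff'.1 this |>.1

end CIGen
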