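import Groth.Agent.CIGenLib.ConeBasic
import Groth.Agent.CIGenLib.Elim
import Mathlib

/-!
# The forms tangent to a variety: a closed irreducible proper subset of the space of forms
-/

set_option autoImplicit false
set_option linter.unusedSectionVars false
set_option linter.style.haveILetI false

universe u

open MvPolynomial IsLocalRing

namespace CIGen

variable {r d : ℕ}

/-- The exponents through which the value and the gradient at a point with `v j = 1` are prescribed. -/
noncomputable def slot (hd : 0 < d) (j q : Fin (r + 1)) : Exp r d :=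
  ⟨Finsupp.single j (d - 1) + Finsupp.single q 1, by rw [map_add, Finsupp.degree_single, Finsupp.degree_single]; omega⟩

theorem slot_injective (hd : 0 < d) (j : Fin (r + 1)) : Function.Injective (slot hd j) := fun p q h =>
  Finsupp.single_left_injective one_ne_zero (add_left_cancel (Subtype.ext_iff.1 h))

section coef

variable {R R' : Type*} [CommRing R] [CommRing R'] {ι : Type*} [Fintype ι]

/-- Coefficients of a tangent form: free ones `a`, the slots being solved for. -/
noncomputable def coef (hd : 0 < d) (j : Fin (r + 1)) (w : Fin (r + 1) → R) (m : Exp r d → R)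
    (dm : Exp r d → Fin (r + 1) → R) (D : ι → Fin (r + 1) → R) (t : ι → R) (a : Exp r d → R) (s : Exp r d) : R :=
  a s + ∑ q, if slot hd j q = s then
    (if q = j then -(∑ s', a s' * m s') - ∑ p ∈ Finset.univ.erase j, ((∑ l, t l * D l p) - ∑ s', a s' * dm s' p) * w p
      else (∑ l, t l * D l q) - ∑ s', a s' * dm s' q) else 0

theorem map_coef (φ : R →+* R') (hd : 0 < d) (j : Fin (r + 1)) (w : Fin (r + 1) → R) (m : Exp r d → R)
    (dm : Exp r d → Fin (r + 1) → R) (D : ι → Fin (r + 1) → R) (t : ι → R) (a : Exp r d → R) (s : Exp r d) :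
    φ (coef hd j w m dm D t a s) = coef hd j (fun q => φ (w q)) (fun s => φ (m s)) (fun s q => φ (dm s q))
      (fun l q => φ (D l q)) (fun l => φ (t l)) (fun s => φ (a s)) s := by
  classical
  simp only [coef, map_add, map_sum, apply_ite φ, map_sub, map_neg, map_mul, map_zero]

theorem sum_split (hd : 0 < d) (j : Fin (r + 1)) (a : Exp r d → R) (x : Fin (r + 1) → R) (φ : Exp r d → R) :
    ∑ s, (a s + ∑ q, if slot hd j q = s then x q else 0) * φ s = ∑ s, a s * φ s + ∑ q, x q * φ (slot hd j q) := by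
  classical
  simp only [add_mul, Finset.sum_add_distrib, Finset.sum_mul, ite_mul, zero_mul]
  rw [Finset.sum_comm]
  congr 1
  exact Finset.sum_congr rfl fun q _ => by rw [Finset.sum_ite_eq, if_pos (Finset.mem_univ _)]

end coef

variable {k : Type u} [Field k] [IsAlgClosed k] {K : Type u} [Field K] [Algebra k K] {N : ℕ}


/-- The form with given coefficients. -/
noncomputable def form1 (c : Exp r d → k) : (MvPolynomial (Fin (r + 1)) k) := ∑ s, monomial s.1 (c s)

theorem isHomogeneous_form1 (c : Exp r d → k) : (form1 c).IsHomogeneous d :=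
  IsHomogeneous.sum _ _ _ fun s _ => isHomogeneous_monomial _ s.2

theorem eval_form1 (c : Exp r d → k) (v : Fin (r + 1) → k) :
    eval v (form1 c) = ∑ s, c s * eval v (monomial s.1 (1 : k)) := by
  simp [form1, eval_monomial]

theorem grad_form1 (c : Exp r d → k) (v : Fin (r + 1) → k) (q : Fin (r + 1)) :
    grad v (form1 c) q = ∑ s, c s * grad v (monomial s.1 (1 : k)) q := by
  simp only [form1, grad, map_sum]
  refine Finset.sum_congr rfl fun s _ => ?_
  rw [show monomial s.1 (c s) = C (c s) * monomial s.1 (1 : k) by rw [C_mul_monomial, mul_one], pderiv_C_mul, map_mul, eval_C]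

theorem eval_slot (hd : 0 < d) {v : Fin (r + 1) → k} {j : Fin (r + 1)} (hj : v j = 1) (q : Fin (r + 1)) :
    eval v (monomial (slot hd j q).1 (1 : k)) = v q := by
  rw [show monomial (slot hd j q).1 (1 : k) = X j ^ (d - 1) * X q by
    rw [X_pow_eq_monomial, X, monomial_mul, mul_one]; rfl]
  simp [hj]

theorem grad_slot (hd : 0 < d) {v : Fin (r + 1) → k} {j : Fin (r + 1)} (hj : v j = 1) (p : Fin (r + 1)) {q : Fin (r + 1)}
    (hq : q ≠ j) : grad v (monomial (slot hd j p).1 (1 : k)) q = if p = q then 1 else 0 := by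
  rw [show monomial (slot hd j p).1 (1 : k) = X j ^ (d - 1) * X p by
    rw [X_pow_eq_monomial, X, monomial_mul, mul_one]; rfl]
  rcases eq_or_ne p q with rfl | h
  · simp [grad, pderiv_mul, pderiv_pow, pderiv_X, Pi.single_apply, hj, hq, Ne.symm hq]
  · simp [grad, pderiv_mul, pderiv_pow, pderiv_X, Pi.single_apply, hq, Ne.symm hq, h, Ne.symm h]

variable {ξ : Fin (r + 1) → K}
variable {F : Fin N → MvPolynomial (Fin (r + 1)) k}
variable {e : Fin N → ℕ}

/-- The coefficients of a tangent form at a point. -/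
noncomputable def pcoef {ι : Type*} [Fintype ι] (F : Fin N → (MvPolynomial (Fin (r + 1)) k)) (hd : 0 < d) (j : Fin (r + 1)) (emb : ι → Fin N)
    (v : Fin (r + 1) → k) (t : ι → k) (a : Exp r d → k) : Exp r d → k :=
  coef hd j v (fun s => eval v (monomial s.1 (1 : k))) (fun s q => grad v (monomial s.1 (1 : k)) q)
    (fun l q => grad v (F (emb l)) q) t a

theorem pcoef_bad {ι : Type*} [Fintype ι] (hF : IsEqn ξ F e) (hd : 0 < d) {j : Fin (r + 1)} (emb : ι → Fin N)
    {v : Fin (r + 1) → k} (hv : Zero F v) (hj : v j = 1) (t : ι → k) (a : Exp r d → k) :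
    BadAt F v (form1 (pcoef F hd j emb v t a)) := by
  classical
  set G := form1 (pcoef F hd j emb v t a) with hG
  have hq : ∀ q, q ≠ j → grad v G q = ∑ l, t l * grad v (F (emb l)) q := fun q hq => by
    rw [hG, grad_form1]
    simp only [pcoef, coef]
    rw [sum_split]
    simp only [grad_slot hd hj _ hq, mul_ite, mul_one, mul_zero, Finset.sum_ite_eq', Finset.mem_univ, if_true, if_neg hq]
    ring
  have h0 : eval v G = 0 := by
    rw [hG, eval_form1]
    simp only [pcoef, coef]
    rw [sum_split]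
    simp only [eval_slot hd hj]
    rw [← Finset.add_sum_erase _ _ (Finset.mem_univ j), if_pos rfl, hj, mul_one]
    have hs : ∀ (A : k) (x : Fin (r + 1) → k), ∑ p ∈ Finset.univ.erase j, (if p = j then A else x p) * v p =
        ∑ p ∈ Finset.univ.erase j, x p * v p :=
      fun A x => Finset.sum_congr rfl fun p hp => by rw [if_neg (Finset.ne_of_mem_erase hp)]
    rw [hs]
    ring
  refine ⟨hv, h0, ?_⟩
  have hall : grad v G = ∑ l, t l • grad v (F (emb l)) := by
    funext q
    simp only [Finset.sum_apply, Pi.smul_apply, smul_eq_mul]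
    rcases eq_or_ne q j with rfl | h
    · have hE := euler (isHomogeneous_form1 (pcoef F hd q emb v t a)) v
      rw [← hG, h0, mul_zero] at hE
      have hE2 : ∑ p, v p * ∑ l, t l * grad v (F (emb l)) p = 0 := by
        simp only [Finset.mul_sum]
        rw [Finset.sum_comm]
        refine Finset.sum_eq_zero fun l _ => ?_
        have := euler (hF.homog (emb l)) v
        rw [hv (emb l), mul_zero] at this
        rw [← mul_zero (t l), ← this, Finset.mul_sum]
        exact Finset.sum_congr rfl fun p _ => by ring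
      rw [← Finset.add_sum_erase _ _ (Finset.mem_univ q), hj, one_mul] at hE hE2
      rw [Finset.sum_congr rfl (fun p hp => by rw [hq p (Finset.ne_of_mem_erase hp)])] at hE
      linear_combination hE - hE2
    · exact hq q h
  rw [hall]
  exact Submodule.sum_mem _ fun l _ => Submodule.smul_mem _ _ (Submodule.subset_span ⟨emb l, rfl⟩)

theorem exists_pcoef {ι : Type*} [Fintype ι] (hd : 0 < d) {j : Fin (r + 1)} (emb : ι → Fin N)
    {v : Fin (r + 1) → k} (hj : v j = 1) (c : Exp r d → k) (hb : BadAt F v (form1 c))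
    (hspan : grad v (form1 c) ∈ Submodule.span k (Set.range fun l => grad v (F (emb l)))) :
    ∃ (t : ι → k) (a : Exp r d → k), (∀ q, a (slot hd j q) = 0) ∧ pcoef F hd j emb v t a = c := by
  classical
  obtain ⟨t, ht⟩ := (Submodule.mem_span_range_iff_exists_fun k).1 hspan
  let a : Exp r d → k := fun s => if s ∈ Set.range (slot hd j) then 0 else c s
  have ha : ∀ q, a (slot hd j q) = 0 := fun q => if_pos ⟨q, rfl⟩
  refine ⟨t, a, ha, ?_⟩
  have hdec : ∀ s, c s = a s + ∑ q, if slot hd j q = s then c (slot hd j q) else 0 := fun s => by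
    by_cases hs : s ∈ Set.range (slot hd j)
    · obtain ⟨q, rfl⟩ := hs
      rw [ha, zero_add, Finset.sum_eq_single q (fun p _ hp => if_neg fun h => hp (slot_injective hd j h)) (by simp), if_pos rfl]
    · rw [Finset.sum_eq_zero fun q _ => if_neg fun h => hs ⟨q, h⟩, add_zero]
      exact (if_neg hs).symm
  have hq : ∀ q, q ≠ j → c (slot hd j q) = (∑ l, t l * grad v (F (emb l)) q) - ∑ s, a s * grad v (monomial s.1 (1 : k)) q := fun q hq => by
    have h := grad_form1 c v q
    rw [show (∑ s, c s * grad v (monomial s.1 (1 : k)) q) = _ from Finset.sum_congr rfl (fun s _ => by rw [hdec s]), sum_split] at h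
    simp only [grad_slot hd hj _ hq, mul_ite, mul_one, mul_zero, Finset.sum_ite_eq', Finset.mem_univ, if_true] at h
    have h2 := congrFun ht q
    simp only [Finset.sum_apply, Pi.smul_apply, smul_eq_mul] at h2
    linear_combination -h2 - h
  have h0 := eval_form1 c v
  rw [hb.2.1, show (∑ s, c s * eval v (monomial s.1 (1 : k))) = _ from Finset.sum_congr rfl (fun s _ => by rw [hdec s]), sum_split] at h0
  simp only [eval_slot hd hj] at h0
  rw [← Finset.add_sum_erase _ _ (Finset.mem_univ j), hj, mul_one] at h0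
  funext s
  rw [hdec s]
  simp only [pcoef, coef]
  congr 1
  refine Finset.sum_congr rfl fun q _ => ?_
  congr 1
  split_ifs with h
  · subst h
    rw [Finset.sum_congr (s₁ := Finset.univ.erase q) rfl (fun p hp => by rw [hq p (Finset.ne_of_mem_erase hp)])] at h0
    linear_combination h0
  · exact (hq q h).symm

/-- The parameter space of tangent forms over a chart. -/
abbrev Free (hd : 0 < d) (j : Fin (r + 1)) : Type := {s : Exp r d // s ∉ Set.range (slot hd j)}

noncomputable instance (hd : 0 < d) (j : Fin (r + 1)) : Fintype (Free hd j) := Fintype.ofFinite _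

/-- The universal tangent form over a chart. -/
noncomputable def psi (ξ : Fin (r + 1) → K) (F : Fin N → (MvPolynomial (Fin (r + 1)) k)) (hd : 0 < d) (j : Fin (r + 1)) {ι : Type} [Fintype ι] (emb : ι → Fin N) :
    Exp r d → MvPolynomial (ι ⊕ Free hd j) ((MvPolynomial (Fin (r + 1)) k) ⧸ chartIdeal (k := k) ξ j) :=
  open scoped Classical in
  coef hd j (fun q => C (Ideal.Quotient.mk _ (X q))) (fun s => C (Ideal.Quotient.mk _ (monomial s.1 (1 : k))))
    (fun s q => C (Ideal.Quotient.mk _ (pderiv q (monomial s.1 (1 : k)))))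
    (fun l q => C (Ideal.Quotient.mk _ (pderiv q (F (emb l))))) (fun l => X (Sum.inl l))
    (fun s => if h : s ∈ Set.range (slot hd j) then 0 else X (Sum.inr ⟨s, h⟩))

/-- Evaluation at a point of the chart and parameters. -/
noncomputable def evPt (hF : IsEqn ξ F e) {v : Fin (r + 1) → k} (hv : Zero F v) {j : Fin (r + 1)} (hj : v j = 1)
    {τ : Type} (t : τ → k) : MvPolynomial τ ((MvPolynomial (Fin (r + 1)) k) ⧸ chartIdeal (k := k) ξ j) →+* k :=
  eval₂Hom (Ideal.Quotient.lift _ (eval v) fun _ hx => chartIdeal_le hF hv hj hx) t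

theorem evPt_C (hF : IsEqn ξ F e) {v : Fin (r + 1) → k} (hv : Zero F v) {j : Fin (r + 1)} (hj : v j = 1)
    {τ : Type} (t : τ → k) (p : MvPolynomial (Fin (r + 1)) k) :
    evPt hF hv hj t (C (Ideal.Quotient.mk (chartIdeal (k := k) ξ j) p)) = eval v p := by
  rw [evPt, eval₂Hom_C]; rfl

theorem evPt_psi (hF : IsEqn ξ F e) (hd : 0 < d) {v : Fin (r + 1) → k} (hv : Zero F v) {j : Fin (r + 1)} (hj : v j = 1)
    {ι : Type} [Fintype ι] (emb : ι → Fin N) (t : ι → k) (a : Exp r d → k) (ha : ∀ q, a (slot hd j q) = 0) (s : Exp r d) :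
    evPt hF hv hj (Sum.elim t fun x : Free hd j => a x.1) (psi ξ F hd j emb s) = pcoef F hd j emb v t a s := by
  classical
  rw [psi, pcoef]
  refine (map_coef (ι := ι) (R := MvPolynomial (ι ⊕ Free hd j) (MvPolynomial (Fin (r + 1)) k ⧸ chartIdeal (k := k) ξ j)) (R' := k) _ hd j _ _ _ _ _ _ s).trans ?_
  congr 1
  · funext q; rw [evPt_C, eval_X]
  · funext s'; rw [evPt_C]
  · funext s' q; rw [evPt_C]; rfl
  · funext l q; rw [evPt_C]; rfl
  · funext l; simp [evPt]
  · funext s'
    split_ifs with h
    · obtain ⟨q, rfl⟩ := h; rw [map_zero, ha]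
    · simp [evPt]

theorem evPt_aeval (hF : IsEqn ξ F e) (hd : 0 < d) {v : Fin (r + 1) → k} (hv : Zero F v) {j : Fin (r + 1)} (hj : v j = 1)
    {ι : Type} [Fintype ι] (emb : ι → Fin N) (t : ι → k) (a : Exp r d → k) (ha : ∀ q, a (slot hd j q) = 0)
    (Φ : MvPolynomial (Exp r d) k) :
    evPt hF hv hj (Sum.elim t fun x : Free hd j => a x.1) (aeval (psi ξ F hd j emb) Φ) = eval (pcoef F hd j emb v t a) Φ := by
  induction Φ using MvPolynomial.induction_on with
  | C c =>
    rw [aeval_C, eval_C, IsScalarTower.algebraMap_apply k ((MvPolynomial (Fin (r + 1)) k) ⧸ chartIdeal (k := k) ξ j), MvPolynomial.algebraMap_eq]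
    simp only [evPt, eval₂Hom_C, ← Ideal.Quotient.mk_algebraMap]
    exact eval_C c
  | add p q hp hq => simp only [map_add, hp, hq]
  | mul_X p i hp => simp only [map_mul, aeval_X, hp, eval_X, evPt_psi hF hd hv hj emb t a ha]

theorem eq_zero_of_evPt (hF : IsEqn ξ F e) {j : Fin (r + 1)} (hξ : ξ j ≠ 0) {τ : Type}
    (x : MvPolynomial τ ((MvPolynomial (Fin (r + 1)) k) ⧸ chartIdeal (k := k) ξ j))
    (h : ∀ (v : Fin (r + 1) → k) (hv : Zero F v) (hj : v j = 1) (t : τ → k), evPt hF hv hj t x = 0) : x = 0 := by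
  ext m
  obtain ⟨p, hp⟩ := Ideal.Quotient.mk_surjective (coeff m x)
  rw [coeff_zero, ← hp, Ideal.Quotient.eq_zero_iff_mem,
    ← (inferInstance : (chartIdeal (k := k) ξ j).IsPrime).radical, ← vanishingIdeal_zeroLocus_eq_radical (K := k),
    mem_vanishingIdeal_iff]
  intro v hv
  rw [mem_zeroLocus_iff] at hv
  have hle : chartIdeal ξ j ≤ RingHom.ker (eval v) := fun q hq => by simpa using hv q hq
  have hz := zero_of_chartIdeal_le hF hle
  have hj : v j = 1 := by simpa [RingHom.mem_ker, sub_eq_zero] using hle (X_sub_one_mem ξ hξ)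
  have h0 : MvPolynomial.map (Ideal.Quotient.lift _ (eval v) fun _ hx => hle hx) x = 0 := MvPolynomial.funext fun t => by
    rw [map_zero, eval_map, ← h v hz hj t]; rfl
  have := congrArg (coeff m) h0
  rw [coeff_map, ← hp, coeff_zero] at this
  rw [aeval_eq_eval]
  exact this

theorem exists_pcoef_all (hd : 0 < d) {j : Fin (r + 1)} {v : Fin (r + 1) → k} (hj : v j = 1) (c : Exp r d → k)
    (hb : BadAt F v (form1 c)) : ∃ (t : Fin N → k) (a : Exp r d → k), (∀ q, a (slot hd j q) = 0) ∧ pcoef F hd j id v t a = c :=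
  exists_pcoef hd id hj c hb hb.2.2

/-- The tangent forms form an irreducible set. -/
theorem bad_irreducible (hF : IsEqn ξ F e) (hd : 0 < d) (Φ Ψ : MvPolynomial (Exp r d) k)
    (h : ∀ c, Bad' F (form1 c) → eval c Φ * eval c Ψ = 0) :
    (∀ c, Bad' F (form1 c) → eval c Φ = 0) ∨ ∀ c, Bad' F (form1 c) → eval c Ψ = 0 := by
  classical
  by_cases hex : ∃ c : Exp r d → k, Bad' F (form1 c)
  swap
  · exact Or.inl fun c hc => absurd ⟨c, hc⟩ hex
  obtain ⟨c0, hc0⟩ := hex
  obtain ⟨j0, v0, hv0, hb0⟩ := exists_normalized hF (isHomogeneous_form1 c0) hc0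
  have hξ0 := ne_zero_of_zero hF hb0.1 (j := j0) (by rw [hv0]; exact one_ne_zero)
  -- vanishing on one chart is vanishing everywhere
  suffices key : ∀ Θ : MvPolynomial (Exp r d) k, aeval (psi ξ F hd j0 (id : Fin N → Fin N)) Θ = 0 →
      ∀ c, Bad' F (form1 c) → eval c Θ = 0 by
    haveI : IsDomain ((MvPolynomial (Fin (r + 1)) k) ⧸ chartIdeal (k := k) ξ j0) := Ideal.Quotient.isDomain _
    have hprod : aeval (psi ξ F hd j0 (id : Fin N → Fin N)) (Φ * Ψ) = 0 := by
      refine eq_zero_of_evPt hF hξ0 _ fun v hv hj t => ?_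
      let a : Exp r d → k := fun s => if h : s ∈ Set.range (slot hd j0) then 0 else t (Sum.inr ⟨s, h⟩)
      have ht : t = Sum.elim (fun l => t (Sum.inl l)) fun x : Free hd j0 => a x.1 := funext fun x => by
        rcases x with l | ⟨s, hs⟩
        · rfl
        · show t (Sum.inr ⟨s, hs⟩) = a s
          simp only [a]
          rw [dif_neg hs]
      rw [ht, evPt_aeval hF hd hv hj id _ a (fun q => dif_pos ⟨q, rfl⟩), map_mul]
      exact h _ ⟨v, fun h0 => one_ne_zero (by rw [← hj, h0]; rfl), pcoef_bad hF hd id hv hj _ _⟩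
    rw [map_mul] at hprod
    rcases mul_eq_zero.1 hprod with h1 | h1
    exacts [Or.inl (key Φ h1), Or.inr (key Ψ h1)]
  intro Θ hΘ c hc
  obtain ⟨j, v, hj, hb⟩ := exists_normalized hF (isHomogeneous_form1 c) hc
  have hξ := ne_zero_of_zero hF hb.1 (j := j) (by rw [hj]; exact one_ne_zero)
  haveI : IsDomain ((MvPolynomial (Fin (r + 1)) k) ⧸ chartIdeal (k := k) ξ j) := Ideal.Quotient.isDomain _
  have hzero : C (Ideal.Quotient.mk (chartIdeal (k := k) ξ j) (X j0)) * aeval (psi ξ F hd j (id : Fin N → Fin N)) Θ = 0 := by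
    refine eq_zero_of_evPt hF hξ _ fun v' hv' hj' t => ?_
    let a : Exp r d → k := fun s => if h : s ∈ Set.range (slot hd j) then 0 else t (Sum.inr ⟨s, h⟩)
    have ht : t = Sum.elim (fun l => t (Sum.inl l)) fun x : Free hd j => a x.1 := funext fun x => by
      rcases x with l | ⟨s, hs⟩
      · rfl
      · show t (Sum.inr ⟨s, hs⟩) = a s
        simp only [a]
        rw [dif_neg hs]
    rw [map_mul, show evPt hF hv' hj' t (C (Ideal.Quotient.mk (chartIdeal (k := k) ξ j) (X j0))) = v' j0 from (eval₂Hom_C _ _ _).trans ((Ideal.Quotient.lift_mk _ _ _).trans (eval_X j0))]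
    rcases eq_or_ne (v' j0) 0 with h0 | h0
    · rw [h0, zero_mul]
    rw [ht, evPt_aeval hF hd hv' hj' id _ a (fun q => dif_pos ⟨q, rfl⟩)]
    set c' := pcoef F hd j id v' (fun l => t (Sum.inl l)) a
    have hb' : BadAt F (fun i => (v' j0)⁻¹ * v' i) (form1 c') :=
      badAt_smul hF (isHomogeneous_form1 c') (inv_ne_zero h0) (pcoef_bad hF hd id hv' hj' _ _)
    obtain ⟨t'', a'', ha'', he''⟩ := exists_pcoef_all hd (j := j0) (inv_mul_cancel₀ h0) c' hb'
    rw [← he'', ← evPt_aeval hF hd hb'.1 (inv_mul_cancel₀ h0) id t'' a'' ha'', hΘ, map_zero, mul_zero]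
  have hne : (C (Ideal.Quotient.mk (chartIdeal (k := k) ξ j) (X j0)) :
      MvPolynomial (Fin N ⊕ Free hd j) ((MvPolynomial (Fin (r + 1)) k) ⧸ chartIdeal (k := k) ξ j)) ≠ 0 := by
    rw [ne_eq, C_eq_zero, Ideal.Quotient.eq_zero_iff_mem, chartIdeal, RingHom.mem_ker, aeval_X]
    exact div_ne_zero hξ0 hξ
  obtain ⟨t, a, ha, he⟩ := exists_pcoef_all hd hj c hb
  rw [← he, ← evPt_aeval hF hd hb.1 hj id t a ha, (mul_eq_zero.1 hzero).resolve_left hne, map_zero]

/-- There is a nonzero polynomial vanishing on all tangent forms. -/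
theorem bad_proper (hF : IsEqn ξ F e) (hd : 0 < d) (n : ℕ)
    (hdim : ∀ j, ξ j ≠ 0 → ringKrullDim ((MvPolynomial (Fin (r + 1)) k) ⧸ chartIdeal (k := k) ξ j) = (n : WithBot ℕ∞))
    (hW : ∀ v, Zero F v → v ≠ 0 → Module.finrank k (Submodule.span k (Set.range fun l => grad v (F l))) + n = r) :
    ∃ Φ : MvPolynomial (Exp r d) k, Φ ≠ 0 ∧ ∀ c, Bad' F (form1 c) → eval c Φ = 0 := by
  classical
  have key : ∀ p : {p : Fin (r + 1) × Finset (Fin N) // ξ p.1 ≠ 0 ∧ p.2.card + n ≤ r},
      ∃ Φ : MvPolynomial (Exp r d) k, Φ ≠ 0 ∧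
        aeval (psi ξ F hd p.1.1 (fun l : p.1.2 => (l : Fin N))) Φ = 0 := by
    rintro ⟨⟨j, T⟩, hξ, hT⟩
    haveI : IsDomain ((MvPolynomial (Fin (r + 1)) k) ⧸ chartIdeal (k := k) ξ j) := Ideal.Quotient.isDomain _
    haveI : IsNoetherianRing ((MvPolynomial (Fin (r + 1)) k) ⧸ chartIdeal (k := k) ξ j) := inferInstance
    let A := (MvPolynomial (Fin (r + 1)) k) ⧸ chartIdeal (k := k) ξ j
    have hdep : ¬ AlgebraicIndependent k (psi ξ F hd j (fun l : T => (l : Fin N))) := fun h => by
      haveI : Algebra.FiniteType k (MvPolynomial (T ⊕ Free hd j) A) :=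
        Algebra.FiniteType.trans (inferInstance : Algebra.FiniteType k A) (inferInstance : Algebra.FiniteType A _)
      obtain ⟨s, hs, hst⟩ := WeilLib.dim_eq_trdeg k (MvPolynomial (T ⊕ Free hd j) A) (FractionRing (MvPolynomial (T ⊕ Free hd j) A))
      have hh : ringKrullDim (MvPolynomial (T ⊕ Free hd j) A) = ((n + Fintype.card (T ⊕ Free hd j) : ℕ) : WithBot ℕ∞) := by
        rw [MvPolynomial.ringKrullDim_of_isNoetherianRing, hdim j hξ, Nat.card_eq_fintype_card]
        push_cast; rfl
      rw [hs] at hh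
      have hs' : s = n + Fintype.card (T ⊕ Free hd j) := by exact_mod_cast hh
      have h' := (h.map' (f := IsScalarTower.toAlgHom k (MvPolynomial (T ⊕ Free hd j) A) (FractionRing (MvPolynomial (T ⊕ Free hd j) A)))
        (by exact IsFractionRing.injective (MvPolynomial (T ⊕ Free hd j) A) (FractionRing (MvPolynomial (T ⊕ Free hd j) A)))).lift_cardinalMk_le_trdeg
      rw [hst] at h'
      simp only [Cardinal.mk_fintype, Cardinal.lift_natCast, Nat.cast_le] at h'
      have hfree : Fintype.card (Free hd j) + (r + 1) = Fintype.card (Exp r d) := by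
        have h1 : Fintype.card (Free hd j) = Fintype.card (Exp r d) - (r + 1) := by
          rw [Fintype.card_subtype_compl, ← Set.toFinset_card, Set.toFinset_range,
            Finset.card_image_of_injective _ (slot_injective hd j), Finset.card_univ, Fintype.card_fin]
        have h2 : r + 1 ≤ Fintype.card (Exp r d) := by
          simpa using Fintype.card_le_of_injective _ (slot_injective hd j)
        omega
      rw [hs', Fintype.card_sum, Fintype.card_coe] at h'
      simp only at hT
      omega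
    rw [algebraicIndependent_iff] at hdep
    push Not at hdep
    obtain ⟨Φ, hΦ, hΦ0⟩ := hdep
    exact ⟨Φ, hΦ0, hΦ⟩
  choose Φ hΦ0 hΦ using key
  refine ⟨∏ p, Φ p, Finset.prod_ne_zero_iff.2 fun p _ => hΦ0 p, fun c hc => ?_⟩
  obtain ⟨j, v, hj, hb⟩ := exists_normalized hF (isHomogeneous_form1 c) hc
  have hξ := ne_zero_of_zero hF hb.1 (j := j) (by rw [hj]; exact one_ne_zero)
  obtain ⟨T, -, -, hTspan, hTli⟩ := exists_linearIndepOn_extension (K := k) (v := fun l => grad v (F l))
    (linearIndepOn_empty k _) (Set.subset_univ (∅ : Set (Fin N)))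
  have hcard : T.toFinset.card + n ≤ r := by
    have h1 : T.toFinset.card ≤ Module.finrank k (Submodule.span k (Set.range fun l => grad v (F l))) := by
      rw [Set.toFinset_card]
      let g : T → Submodule.span k (Set.range fun l => grad v (F l)) := fun l => ⟨_, Submodule.subset_span ⟨l.1, rfl⟩⟩
      exact (LinearIndependent.of_comp (v := g) (Submodule.subtype _) hTli.linearIndependent).fintype_card_le_finrank
    have := hW v hb.1 (fun h0 => one_ne_zero (by rw [← hj, h0]; rfl))
    omega
  rw [map_prod]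
  refine Finset.prod_eq_zero (Finset.mem_univ ⟨(j, T.toFinset), hξ, hcard⟩) ?_
  have hmem : grad v (form1 c) ∈ Submodule.span k (Set.range fun l : T.toFinset => grad v (F (l : Fin N))) := by
    refine Submodule.span_le.2 ?_ hb.2.2
    rintro _ ⟨l, rfl⟩
    have := hTspan ⟨l, trivial, rfl⟩
    rw [Set.image_eq_range] at this
    refine Submodule.span_mono ?_ this
    rintro _ ⟨x, rfl⟩
    exact ⟨⟨x.1, Set.mem_toFinset.2 x.2⟩, rfl⟩
  obtain ⟨t, a, ha, he⟩ := exists_pcoef hd (fun l : T.toFinset => (l : Fin N)) hj c hb hmem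
  rw [← he, ← evPt_aeval hF hd hb.1 hj _ t a ha]
  exact (congrArg _ (hΦ ⟨(j, T.toFinset), hξ, hcard⟩)).trans (map_zero _)

/-- The rows of a minor. -/
noncomputable def rows (F : Fin N → (MvPolynomial (Fin (r + 1)) k)) (v : Fin (r + 1) → k) (G : (MvPolynomial (Fin (r + 1)) k)) :
    Option (Fin N) ⊕ Fin (r + 1) → Fin (r + 1) → k :=
  Sum.elim (fun o => o.elim (grad v G) fun l => grad v (F l)) fun i => Pi.single i 1

/-- Equations of the tangency points. -/
theorem exists_bad_eqns (hF : IsEqn ξ F e) (cd : ℕ)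
    (hW : ∀ v, Zero F v → v ≠ 0 → Module.finrank k (Submodule.span k (Set.range fun l => grad v (F l))) = cd) :
    ∃ (ι : Type) (_ : Fintype ι) (E : ι → MvPolynomial (Fin (r + 1)) (MvPolynomial (Exp r d) k)) (ed : ι → ℕ),
      (∀ x, (E x).IsHomogeneous (ed x)) ∧ ∀ (c : Exp r d → k) (v : Fin (r + 1) → k), v ≠ 0 →
        (BadAt F v (form1 c) ↔ ∀ x, eval v (MvPolynomial.map (eval c) (E x)) = 0) := by
  classical
  let Idx := {R : Fin (r + 1) → Option (Fin N) ⊕ Fin (r + 1) //
    Function.Injective R ∧ cd < (Finset.univ.filter fun i => (R i).isLeft).card}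
  let P := MvPolynomial (Exp r d) k
  let Gen : MvPolynomial (Fin (r + 1)) P := ∑ s, monomial s.1 (X s)
  let poly : Option (Fin N) → MvPolynomial (Fin (r + 1)) P := fun o => o.elim Gen fun l => MvPolynomial.map C (F l)
  let M : Idx → Matrix (Fin (r + 1)) (Fin (r + 1)) (MvPolynomial (Fin (r + 1)) P) := fun R i q =>
    Sum.elim (fun o => pderiv q (poly o)) (fun x => (Pi.single x 1 : Fin (r + 1) → MvPolynomial (Fin (r + 1)) P) q) (R.1 i)
  let rdeg : Option (Fin N) ⊕ Fin (r + 1) → ℕ := Sum.elim (fun o => (o.elim d e) - 1) fun _ => 0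
  let E : Fin N ⊕ Unit ⊕ Idx → MvPolynomial (Fin (r + 1)) P :=
    Sum.elim (fun l => MvPolynomial.map C (F l)) (Sum.elim (fun _ => Gen) fun R => (M R).det)
  let ed : Fin N ⊕ Unit ⊕ Idx → ℕ := Sum.elim e (Sum.elim (fun _ => d) fun R => ∑ i, rdeg (R.1 i))
  have hGen : Gen.IsHomogeneous d := IsHomogeneous.sum _ _ _ fun s _ => isHomogeneous_monomial _ s.2
  have hpoly : ∀ o, (poly o).IsHomogeneous (o.elim d e) := fun o => by
    rcases o with _ | l
    exacts [hGen, (hF.homog l).map _]
  have hE : ∀ x, (E x).IsHomogeneous (ed x) := by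
    rintro (l | _ | R)
    · exact (hF.homog l).map _
    · exact hGen
    · show ((M R).det).IsHomogeneous (∑ i, rdeg (R.1 i))
      rw [Matrix.det_apply']
      refine IsHomogeneous.sum _ _ _ fun σ _ => ?_
      rw [show (∑ i, rdeg (R.1 i)) = 0 + ∑ i, rdeg (R.1 (σ i)) by rw [zero_add, Equiv.sum_comp σ fun i => rdeg (R.1 i)]]
      refine IsHomogeneous.mul ?_ (IsHomogeneous.prod _ _ _ fun i _ => ?_)
      · rw [← map_intCast (C : P →+* MvPolynomial (Fin (r + 1)) P)]; exact isHomogeneous_C _ _
      · simp only [M, rdeg]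
        rcases R.1 (σ i) with o | x
        · exact (hpoly o).pderiv
        · simp only [Sum.elim_inr, Pi.single_apply]
          split_ifs
          exacts [isHomogeneous_one _ _, isHomogeneous_zero _ _ _]
  have hGenc : ∀ c : Exp r d → k, MvPolynomial.map (eval c) Gen = form1 c := fun c => by
    simp [Gen, form1, map_monomial]
  have hC : ∀ (c : Exp r d → k) (p : (MvPolynomial (Fin (r + 1)) k)), MvPolynomial.map (eval c) (MvPolynomial.map (C : k →+* P) p) = p := fun c p => by
    rw [map_map, show (eval c).comp (C : k →+* P) = RingHom.id k by ext x; simp, map_id]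
  have hdet : ∀ (c : Exp r d → k) (v : Fin (r + 1) → k) (R : Idx), eval v (MvPolynomial.map (eval c) (M R).det) =
      (Matrix.of fun i => rows F v (form1 c) (R.1 i)).det := fun c v R => by
    rw [RingHom.map_det, RingHom.map_det]
    congr 1
    ext i q
    show eval v (MvPolynomial.map (eval c) (M R i q)) = rows F v (form1 c) (R.1 i) q
    simp only [M, rows]
    rcases R.1 i with (_ | l) | x
    · simp only [Sum.elim_inl, Option.elim, poly, grad, ← pderiv_map, hGenc]
    · simp only [Sum.elim_inl, Option.elim, poly, grad, ← pderiv_map, hC]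
    · simp [Pi.single_apply, apply_ite (MvPolynomial.map (eval c)), apply_ite (eval v)]
  refine ⟨Fin N ⊕ Unit ⊕ Idx, inferInstance, E, ed, hE, ?_⟩
  suffices hiff : ∀ (c : Exp r d → k) (v : Fin (r + 1) → k), v ≠ 0 →
      (BadAt F v (form1 c) ↔ ∀ x, eval v (MvPolynomial.map (eval c) (E x)) = 0) from hiff
  intro c v hv0
  constructor
  · rintro ⟨hz, hG, hgr⟩
    rintro (l | _ | R)
    · simp only [E, Sum.elim_inl, hC]; exact hz l
    · simp only [E, Sum.elim_inl, Sum.elim_inr, hGenc]; exact hG
    · simp only [E, Sum.elim_inr, hdet]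
      by_contra h
      have hli := Matrix.linearIndependent_rows_of_det_ne_zero h
      let L := Finset.univ.filter fun i => (R.1 i).isLeft
      have hli2 : LinearIndependent k fun i : L => rows F v (form1 c) (R.1 i) := hli.comp _ Subtype.val_injective
      have hmem : ∀ i : L, rows F v (form1 c) (R.1 i) ∈ Submodule.span k (Set.range fun l => grad v (F l)) := fun i => by
        obtain ⟨o, ho⟩ := Sum.isLeft_iff.1 (Finset.mem_filter.1 i.2).2
        rw [ho]
        rcases o with _ | l
        exacts [hgr, Submodule.subset_span ⟨l, rfl⟩]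
      have h2 := (LinearIndependent.of_comp (v := fun i => (⟨_, hmem i⟩ : Submodule.span k (Set.range fun l => grad v (F l))))
        (Submodule.subtype _) hli2).fintype_card_le_finrank
      rw [hW v hz hv0, Fintype.card_coe] at h2
      exact absurd R.2.2 (not_lt.2 h2)
  · intro hall
    have hz : Zero F v := fun l => by simpa only [E, Sum.elim_inl, hC] using hall (Sum.inl l)
    refine ⟨hz, by simpa only [E, Sum.elim_inl, Sum.elim_inr, hGenc] using hall (Sum.inr (Sum.inl ())), ?_⟩
    by_contra hgr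
    let rw' := rows F v (form1 c)
    let sF : Set (Option (Fin N) ⊕ Fin (r + 1)) := Set.range fun l => Sum.inl (some l)
    obtain ⟨b0, hb0, -, hb0span, hb0li⟩ := exists_linearIndepOn_extension (K := k) (v := rw')
      (linearIndepOn_empty k _) (Set.empty_subset sF)
    have hspanF : Submodule.span k (rw' '' b0) = Submodule.span k (Set.range fun l => grad v (F l)) := by
      refine le_antisymm (Submodule.span_le.2 ?_) (Submodule.span_le.2 ?_)
      · rintro _ ⟨x, hx, rfl⟩
        obtain ⟨l, rfl⟩ := hb0 hx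
        exact Submodule.subset_span ⟨l, rfl⟩
      · rintro _ ⟨l, rfl⟩
        exact hb0span ⟨Sum.inl (some l), ⟨l, rfl⟩, rfl⟩
    have hnone : Sum.inl none ∉ b0 := fun h => by
      obtain ⟨l, hl⟩ := hb0 h
      simp at hl
    have hb1li : LinearIndepOn k rw' (insert (Sum.inl none) b0) :=
      (linearIndepOn_insert hnone).2 ⟨hb0li, by rw [hspanF]; exact hgr⟩
    obtain ⟨b, -, hb1b, hbspan, hbli⟩ := exists_linearIndepOn_extension hb1li (Set.subset_univ _)
    have hbtop : Submodule.span k (rw' '' b) = ⊤ := by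
      rw [eq_top_iff]
      intro w _
      rw [pi_eq_sum_univ' w]
      exact Submodule.sum_mem _ fun q _ => Submodule.smul_mem _ _ (hbspan ⟨Sum.inr q, trivial, rfl⟩)
    have hbcard : b.toFinset.card = r + 1 := by
      have h := finrank_span_eq_card hbli.linearIndependent
      rw [← Set.image_eq_range, hbtop, finrank_top, Module.finrank_fin_fun] at h
      rw [Set.toFinset_card]
      exact h.symm
    have hb0card : b0.toFinset.card = cd := by
      rw [Set.toFinset_card, ← hW v hz hv0, ← hspanF, Set.image_eq_range]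
      exact (finrank_span_eq_card hb0li.linearIndependent).symm
    let eqv : Fin (r + 1) ≃ b.toFinset := (b.toFinset.equivFinOfCardEq hbcard).symm
    have hR : cd < (Finset.univ.filter fun i => ((eqv i).1).isLeft).card := by
      have h1 : (insert (Sum.inl none) b0.toFinset).card = cd + 1 := by
        rw [Finset.card_insert_of_notMem (by simpa using hnone), hb0card]
      have h2 : insert (Sum.inl none) b0.toFinset ⊆ (Finset.univ.filter fun i => ((eqv i).1).isLeft).image fun i => (eqv i).1 := by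
        intro x hx
        have hxb : x ∈ b := hb1b (by simpa using hx)
        rw [Finset.mem_image]
        refine ⟨eqv.symm ⟨x, Set.mem_toFinset.2 hxb⟩, Finset.mem_filter.2 ⟨Finset.mem_univ _, ?_⟩, by simp⟩
        rw [Equiv.apply_symm_apply]
        rcases Finset.mem_insert.1 hx with h | h
        · subst h; rfl
        · obtain ⟨l, rfl⟩ := hb0 (Set.mem_toFinset.1 h); rfl
      have h3 := (Finset.card_le_card h2).trans Finset.card_image_le
      omega
    have h := hall (Sum.inr (Sum.inr ⟨fun i => (eqv i).1, Subtype.val_injective.comp eqv.injective, hR⟩))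
    simp only [E, Sum.elim_inr, hdet] at h
    refine absurd h (IsUnit.ne_zero ((Matrix.isUnit_iff_isUnit_det _).1 (Matrix.linearIndependent_rows_iff_isUnit.1 ?_)))
    exact hbli.linearIndependent.comp (fun i => (⟨(eqv i).1, Set.mem_toFinset.1 (eqv i).2⟩ : b))
      (fun x y h => eqv.injective (Subtype.ext (congrArg (fun z : b => z.1) h)))

/-- Non-tangency is an open condition. -/
theorem bad_closed (hF : IsEqn ξ F e) (cd : ℕ)
    (hW : ∀ v, Zero F v → v ≠ 0 → Module.finrank k (Submodule.span k (Set.range fun l => grad v (F l))) = cd)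
    (c0 : Exp r d → k) (hc0 : ¬ Bad' F (form1 c0)) :
    ∃ Φ : MvPolynomial (Exp r d) k, eval c0 Φ ≠ 0 ∧ ∀ c, eval c Φ ≠ 0 → ¬ Bad' F (form1 c) := by
  classical
  obtain ⟨ι, _, E, ed, hE, hiff⟩ := exists_bad_eqns hF cd hW (d := d)
  obtain ⟨Φ, hΦ, hΦ'⟩ := exists_open_no_zero E ed hE c0 fun v hv => by
    by_contra h0
    exact hc0 ⟨v, h0, (hiff c0 v h0).2 hv⟩
  refine ⟨Φ, hΦ, fun c hc hb => ?_⟩
  obtain ⟨v, hv0, hv⟩ := hb
  exact hv0 (hΦ' c hc v ((hiff c v hv0).1 hv))

end CIGen
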