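import Groth.Agent.CIGenLib.Bridge
import Mathlib

/-!
# The dual variety on the space of forms
-/

set_option autoImplicit false
set_option linter.unusedSectionVars false

universe u

open CategoryTheory AlgebraicGeometry MvPolynomial

namespace CIGen

variable {k : Type u} [Field k] [IsAlgClosed k] {r d : ℕ}

/-- The coordinates of a form. -/
def coords (H : LefPen.Form r k d) : Exp r d → k := fun s => coeff s.1 H.1

/-- The form with given coordinates. -/
noncomputable def formOf (c : Exp r d → k) : LefPen.Form r k d :=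
  ⟨form1 c, (mem_homogeneousSubmodule d _).2 (isHomogeneous_form1 c)⟩

theorem coeff_form1 (c : Exp r d → k) (s : Exp r d) : coeff s.1 (form1 c) = c s := by
  classical
  simp only [form1, coeff_sum, coeff_monomial]
  rw [Finset.sum_eq_single s (fun t _ ht => if_neg fun h => ht (Subtype.ext h))
    (fun h => absurd (Finset.mem_univ s) h), if_pos rfl]

theorem coords_formOf (c : Exp r d → k) : coords (formOf c) = c := funext fun s => coeff_form1 c s

theorem formOf_coords (H : LefPen.Form r k d) : formOf (coords H) = H := by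
  refine Subtype.ext (MvPolynomial.ext _ _ fun e => ?_)
  by_cases he : e.degree = d
  · exact coeff_form1 (coords H) ⟨e, he⟩
  · show coeff e (form1 (coords H)) = coeff e H.1
    rw [(isHomogeneous_form1 (coords H)).coeff_eq_zero (by simpa using he),
      ((mem_homogeneousSubmodule d _).1 H.2).coeff_eq_zero (by simpa using he)]

theorem form1_coords (H : LefPen.Form r k d) : form1 (coords H) = H.1 :=
  congrArg Subtype.val (formOf_coords H)

/-- A coordinate as a linear form. -/
noncomputable def coordLin (s : Exp r d) : Module.Dual k (LefPen.Form r k d) :=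
  (lcoeff k s.1).comp (Submodule.subtype _)

theorem isPolyFun_eval (Φ : MvPolynomial (Exp r d) k) :
    LefPen.IsPolyFun k fun H : LefPen.Form r k d => eval (coords H) Φ := by
  unfold LefPen.IsPolyFun
  induction Φ using MvPolynomial.induction_on with
  | C a =>
    have : (fun H : LefPen.Form r k d => eval (coords H) (C a : MvPolynomial (Exp r d) k)) = algebraMap k _ a := by
      funext H; simp
    rw [this]
    exact Subalgebra.algebraMap_mem _ a
  | add p q hp hq =>
    have := add_mem hp hq
    simpa [Pi.add_def] using this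
  | mul_X p s hp =>
    have hs : (fun H : LefPen.Form r k d => coords H s) ∈
        Algebra.adjoin k (Set.range (fun l : Module.Dual k (LefPen.Form r k d) => (l : LefPen.Form r k d → k))) :=
      Algebra.subset_adjoin ⟨coordLin s, rfl⟩
    have := mul_mem hp hs
    simpa [Pi.mul_def] using this

theorem exists_eval_of_isPolyFun {f : LefPen.Form r k d → k} (hf : LefPen.IsPolyFun k f) :
    ∃ Φ : MvPolynomial (Exp r d) k, ∀ H, f H = eval (coords H) Φ := by
  classical
  induction hf using Algebra.adjoin_induction with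
  | mem x hx =>
    obtain ⟨l, rfl⟩ := hx
    refine ⟨∑ s, C (l (formOf (Pi.single s 1))) * X s, fun H => ?_⟩
    have hlin : formOf (coords H) = ∑ s, coords H s • formOf (Pi.single s (1 : k)) := by
      refine Subtype.ext ?_
      simp only [formOf, form1, Submodule.coe_sum, Submodule.coe_smul, Finset.smul_sum, smul_monomial, smul_eq_mul]
      rw [Finset.sum_comm]
      refine Finset.sum_congr rfl fun s _ => ?_
      rw [Finset.sum_eq_single s (fun t _ ht => by simp [Pi.single_eq_of_ne (Ne.symm ht)])
        (fun h => absurd (Finset.mem_univ s) h)]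
      simp
    show l H = _
    conv_lhs => rw [← formOf_coords H, hlin, map_sum]
    simp [mul_comm]
  | algebraMap a => exact ⟨C a, fun H => by simp⟩
  | add x y _ _ hx hy =>
    obtain ⟨Φ, hΦ⟩ := hx
    obtain ⟨Ψ, hΨ⟩ := hy
    exact ⟨Φ + Ψ, fun H => by simp [hΦ H, hΨ H]⟩
  | mul x y _ _ hx hy =>
    obtain ⟨Φ, hΦ⟩ := hx
    obtain ⟨Ψ, hΨ⟩ := hy
    exact ⟨Φ * Ψ, fun H => by simp [hΦ H, hΨ H]⟩

variable {X : Scheme.{u}} (n : ℕ) (i : X ⟶ CohB1.ProjSpace r k) [IsClosedImmersion i] [IrreducibleSpace X]
  [SmoothOfRelativeDimension n (i ≫ CohB1.ProjSpace.toSpec r k)]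

/-- The non-transversal forms: irreducible, closed, and contained in the zeros of a nonzero polynomial. -/
theorem dual_variety (hn : 1 ≤ n) (hd : 1 ≤ d) :
    let T : Set (LefPen.Form r k d) := {H | LefPen.Transversal k n 1 (LefPen.secToSpec i ({H} : Set (LefPen.Form r k d)))}
    LefPen.IsZOpen k T ∧ LefPen.IsGeneric k T ∧
      ∀ f g : LefPen.Form r k d → k, LefPen.IsPolyFun k f → LefPen.IsPolyFun k g → (∀ H ∉ T, f H * g H = 0) →
        (∀ H ∉ T, f H = 0) ∨ ∀ H ∉ T, g H = 0 := by
  obtain ⟨K, _, _, ξ, N, F, e, hF, hdim, hreg, hB⟩ := exists_model n hn i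
  intro T
  have hT : ∀ H : LefPen.Form r k d, H ∉ T ↔ Bad' F (form1 (coords H)) := fun H => by
    rw [form1_coords]; exact hB d H
  have hW : ∀ v, Zero F v → v ≠ 0 → Module.finrank k (Submodule.span k (Set.range fun l => grad v (F l))) + n = r :=
    fun v hv h0 => finrank_grad hF n hdim hreg hv h0
  refine ⟨fun H hH => ?_, ?_, fun f g hf hg h => ?_⟩
  · obtain ⟨Φ, h0, hΦ⟩ := bad_closed hF (r - n) (fun v hv h0 => by have := hW v hv h0; omega) (coords H)
      (fun hb => (hT H).2 hb hH)
    exact ⟨_, isPolyFun_eval Φ, h0, fun G hG => by_contra fun hGT => hΦ _ hG ((hT G).1 hGT)⟩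
  · obtain ⟨Φ, h0, hΦ⟩ := bad_proper hF hd n hdim hW
    obtain ⟨c, hc⟩ : ∃ c : Exp r d → k, eval c Φ ≠ 0 := by
      by_contra hall
      push Not at hall
      exact h0 (MvPolynomial.funext fun c => by rw [hall c, map_zero])
    exact ⟨_, isPolyFun_eval Φ, ⟨formOf c, by simpa [coords_formOf] using hc⟩,
      fun G hG => by_contra fun hGT => hG (hΦ _ ((hT G).1 hGT))⟩
  · obtain ⟨Φ, hΦ⟩ := exists_eval_of_isPolyFun hf
    obtain ⟨Ψ, hΨ⟩ := exists_eval_of_isPolyFun hg
    refine (bad_irreducible hF hd Φ Ψ fun c hc => ?_).imp (fun h1 H hH => ?_) fun h1 H hH => ?_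
    · have hcT : formOf c ∉ T := (hT _).2 (by rwa [coords_formOf])
      simpa [hΦ, hΨ, coords_formOf] using h _ hcT
    · rw [hΦ]; exact h1 _ ((hT H).1 hH)
    · rw [hΨ]; exact h1 _ ((hT H).1 hH)

end CIGen
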