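import Groth.Agent.CIGenLib.Hyp
import Groth.Agent.JacFSLib.Basic
import Groth.Agent.GenusZeroLib.PSmooth
import Mathlib.RingTheory.Smooth.Locus
import Mathlib.RingTheory.Kaehler.Polynomial

/-!
# The Jacobian criterion for hypersurfaces of projective space
-/

set_option autoImplicit false
set_option linter.unusedSectionVars false
set_option linter.style.haveILetI false

universe u

open CategoryTheory AlgebraicGeometry TopologicalSpace MvPolynomial GradedCechLib
open scoped TensorProduct

namespace CIGen

section Affine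

variable {k : Type u} [Field k] {n : ℕ} (f : MvPolynomial (Fin n) k)

/-- The Jacobian ideal of an affine hypersurface. -/
noncomputable def jacIdeal : Ideal (MvPolynomial (Fin n) k) :=
  Ideal.span {f} ⊔ Ideal.span (Set.range fun l => pderiv l f)

theorem pderiv_eq_repr (l : Fin n) (g : MvPolynomial (Fin n) k) :
    pderiv l g = (KaehlerDifferential.mvPolynomialBasis k (Fin n)).repr (KaehlerDifferential.D k _ g) l :=
  (KaehlerDifferential.mvPolynomialBasis_repr_apply _ _ _ _).symm

/-- A hypersurface with trivial Jacobian ideal is smooth. -/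
theorem smooth_of_jacIdeal_eq_top (h : jacIdeal f = ⊤) :
    Algebra.Smooth k (MvPolynomial (Fin n) k ⧸ Ideal.span {f}) := by
  classical
  let B := MvPolynomial (Fin n) k
  let J : Ideal B := Ideal.span {f}
  let A := B ⧸ J
  haveI : Algebra.FinitePresentation k A := Algebra.FinitePresentation.quotient (Submodule.fg_span_singleton f)
  refine ⟨Algebra.smoothLocus_eq_univ_iff.1 (Set.eq_univ_of_forall fun p => ?_), inferInstance⟩
  let q : Ideal B := p.asIdeal.comap (algebraMap B A)
  obtain ⟨l, hl⟩ : ∃ l, pderiv l f ∉ q := by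
    by_contra hne
    push Not at hne
    refine (inferInstance : q.IsPrime).ne_top (top_le_iff.1 (h ▸ ?_))
    refine sup_le ((Ideal.span_singleton_le_iff_mem _).2 ?_) (Ideal.span_le.2 (by rintro _ ⟨l, rfl⟩; exact hne l))
    show algebraMap B A f ∈ p.asIdeal
    rw [show algebraMap B A f = 0 from Ideal.Quotient.eq_zero_iff_mem.2 (Ideal.subset_span rfl)]
    exact p.asIdeal.zero_mem
  let φ : Fin 1 → (KaehlerDifferential k B →ₗ[B] B) := fun _ =>
    (Finsupp.lapply l).comp (KaehlerDifferential.mvPolynomialBasis k (Fin n)).repr.toLinearMap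
  letI : Algebra (Localization.AtPrime q) (Localization.AtPrime p.asIdeal) :=
    (Localization.localRingHom q p.asIdeal (algebraMap B A) rfl).toAlgebra
  haveI : IsScalarTower B (Localization.AtPrime q) (Localization.AtPrime p.asIdeal) :=
    IsScalarTower.of_algebraMap_eq fun b => by
      rw [RingHom.algebraMap_toAlgebra, Localization.localRingHom_to_map]
      rfl
  haveI : IsScalarTower k (Localization.AtPrime q) (Localization.AtPrime p.asIdeal) :=
    IsScalarTower.of_algebraMap_eq fun c => by
      rw [IsScalarTower.algebraMap_apply k B (Localization.AtPrime q), ← IsScalarTower.algebraMap_apply,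
        IsScalarTower.algebraMap_apply k B (Localization.AtPrime p.asIdeal)]
  have hsurj : Function.Surjective (algebraMap (Localization.AtPrime q) (Localization.AtPrime p.asIdeal)) := by
    rw [RingHom.algebraMap_toAlgebra]
    intro x
    obtain ⟨a, ⟨t, ht⟩, rfl⟩ := IsLocalization.exists_mk'_eq p.asIdeal.primeCompl x
    obtain ⟨b, rfl⟩ := Ideal.Quotient.mk_surjective a
    obtain ⟨t, rfl⟩ := Ideal.Quotient.mk_surjective t
    exact ⟨IsLocalization.mk' _ b (⟨t, ht⟩ : q.primeCompl), Localization.localRingHom_mk' _ _ _ rfl _ _⟩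
  have hker : RingHom.ker (algebraMap (Localization.AtPrime q) (Localization.AtPrime p.asIdeal)) =
      J.map (algebraMap B (Localization.AtPrime q)) := by
    refine le_antisymm (fun x hx => ?_) (Ideal.map_le_iff_le_comap.2 fun b hb => ?_)
    · obtain ⟨b, s, rfl⟩ := IsLocalization.exists_mk'_eq q.primeCompl x
      rw [RingHom.mem_ker, RingHom.algebraMap_toAlgebra, Localization.localRingHom_mk',
        IsLocalization.mk'_eq_zero_iff] at hx
      obtain ⟨⟨t, ht⟩, hts⟩ := hx
      obtain ⟨t, rfl⟩ := Ideal.Quotient.mk_surjective t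
      rw [IsLocalization.mem_map_algebraMap_iff q.primeCompl]
      have hmem : t * b ∈ J := Ideal.Quotient.eq_zero_iff_mem.1 ((map_mul _ _ _).trans hts)
      refine ⟨⟨⟨t * b, hmem⟩, ⟨t * s.1, q.primeCompl.mul_mem ht s.2⟩⟩, ?_⟩
      show IsLocalization.mk' _ b s * algebraMap B _ (t * s.1) = algebraMap B _ (t * b)
      rw [map_mul, mul_left_comm, IsLocalization.mk'_spec, map_mul]
    · rw [Ideal.mem_comap, RingHom.mem_ker, ← IsScalarTower.algebraMap_apply,
        IsScalarTower.algebraMap_apply B A (Localization.AtPrime p.asIdeal),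
        show algebraMap B A b = 0 from Ideal.Quotient.eq_zero_iff_mem.2 hb, map_zero]
  refine JacFSLib.formallySmooth_of_jacobian q (Localization.AtPrime p.asIdeal) hsurj J hker 1 (fun _ => f) φ
    (fun _ => Ideal.subset_span rfl) ?_ ?_
  · rw [Ideal.map_span, Set.image_singleton, Set.range_const]
  · rw [Matrix.det_unique, Matrix.of_apply]
    show ((KaehlerDifferential.mvPolynomialBasis k (Fin n)).repr (KaehlerDifferential.D k B f)) l ∉ q
    rwa [← pderiv_eq_repr]

/-- A smooth hypersurface has trivial Jacobian ideal. -/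
theorem jacIdeal_eq_top_of_smooth (hf : f ≠ 0) [Algebra.Smooth k (MvPolynomial (Fin n) k ⧸ Ideal.span {f})] :
    jacIdeal f = ⊤ := by
  classical
  let B := MvPolynomial (Fin n) k
  let J : Ideal B := Ideal.span {f}
  let A := B ⧸ J
  by_contra hne
  obtain ⟨M, hM, hle⟩ := Ideal.exists_le_maximal _ hne
  have hsurj : Function.Surjective (algebraMap B A) := Ideal.Quotient.mk_surjective
  obtain ⟨l, hl⟩ := (Algebra.FormallySmooth.iff_split_injection (R := k) hsurj).1
    (inferInstance : Algebra.FormallySmooth k A)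
  let I : Ideal B := RingHom.ker (algebraMap B A)
  have hI : I = J := Ideal.mk_ker
  have hfI : f ∈ I := hI.ge (Ideal.subset_span rfl)
  let F : I := ⟨f, hfI⟩
  have hD : KaehlerDifferential.D k B f ∈ M • (⊤ : Submodule B (KaehlerDifferential k B)) := by
    rw [← (KaehlerDifferential.mvPolynomialBasis k (Fin n)).sum_repr (KaehlerDifferential.D k B f)]
    refine Submodule.sum_mem _ fun i _ => Submodule.smul_mem_smul ?_ Submodule.mem_top
    rw [← pderiv_eq_repr]
    exact hle (Ideal.mem_sup_right (Ideal.subset_span ⟨i, rfl⟩))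
  have hκ : I.toCotangent F ∈ M • (⊤ : Submodule B I.Cotangent) := by
    have h := LinearMap.congr_fun hl (I.toCotangent F)
    rw [LinearMap.id_apply, LinearMap.comp_apply, KaehlerDifferential.kerCotangentToTensor_toCotangent] at h
    rw [← h]
    have hmap : Submodule.map ((l.restrictScalars B).comp (TensorProduct.mk B A (KaehlerDifferential k B) 1))
        (M • ⊤) ≤ M • (⊤ : Submodule B I.Cotangent) := by
      rw [Submodule.map_smul'']
      exact Submodule.smul_mono le_rfl le_top
    exact hmap ⟨_, hD, rfl⟩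
  obtain ⟨x, hx, hxF⟩ : ∃ x ∈ M • (⊤ : Submodule B I), I.toCotangent x = I.toCotangent F := by
    have h : (M • (⊤ : Submodule B I)).map I.toCotangent = M • ⊤ := by
      rw [Submodule.map_smul'', Submodule.map_top, LinearMap.range_eq_top.2 I.toCotangent_surjective]
    rw [← h] at hκ
    exact hκ
  rw [Ideal.toCotangent_eq] at hxF
  have hxM : (x : B) ∈ M * J := by
    have h : (M • (⊤ : Submodule B I)).map I.subtype ≤ M * J := by
      rw [Submodule.map_smul'', Submodule.map_top, Submodule.range_subtype, hI, smul_eq_mul]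
    exact h ⟨x, hx, rfl⟩
  have hfM : f ∈ M * J := by
    have h2 : (x : B) - f ∈ M * J := by
      have : I ^ 2 ≤ M * J := by
        rw [sq, hI]
        exact Ideal.mul_mono_left ((Ideal.span_singleton_le_iff_mem _).2 (hle (Ideal.mem_sup_left (Ideal.subset_span rfl))))
      exact this hxF
    have := sub_mem hxM h2
    simpa using this
  obtain ⟨a, ha, haf⟩ := Ideal.mem_mul_span_singleton.1 hfM
  have : a = 1 := mul_right_cancel₀ hf (haf.trans (one_mul f).symm)
  exact hM.ne_top ((Ideal.eq_top_iff_one _).2 (this ▸ ha))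

end Affine

section Proj

variable {k : Type u} [Field k] {r d : ℕ}

/-- Smoothness of a hypersurface, chart by chart. -/
theorem smooth_hyp_iff (G : LefPen.Form r k d) :
    Smooth ((LefPen.hypIdeal G).subschemeι ≫ CohB1.ProjSpace.toSpec r k) ↔
      ∀ j, Algebra.Smooth k (MvPolynomial (Fin r) k ⧸ Ideal.span {GenusZeroLib.subst r k j G.1}) := by
  let P := CohB1.ProjSpace r k
  let I := LefPen.hypIdeal G
  rw [IsZariskiLocalAtSource.iff_of_iSup_eq_top (P := @Smooth) (fun j => I.subschemeι ⁻¹ᵁ LefPen.chart r k j)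
    (by rw [← Scheme.Hom.preimage_iSup, show ⨆ j, LefPen.chart r k j = ⊤ from QCohLib.iSup_stdOpen r k, Scheme.Hom.preimage_top])]
  refine forall_congr' fun j => ?_
  let U : P.affineOpens := ⟨LefPen.chart r k j, chart_affine j⟩
  let g := I.subschemeι ≫ CohB1.ProjSpace.toSpec r k
  let ψ : k →+* Γ(P, LefPen.chart r k j) ⧸ I.ideal U :=
    (Ideal.Quotient.mk _).comp (cstOn r k (LefPen.chart r k j))
  have hcomp : I.subschemeCover.f U ≫ g = Spec.map (CommRingCat.ofHom ψ) := by
    have hg : I.glueDataObjι U ≫ U.1.ι = Spec.map (CommRingCat.ofHom (Ideal.Quotient.mk (I.ideal U))) ≫ U.2.fromSpec := by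
      rw [Scheme.IdealSheafData.glueDataObjι, Category.assoc]
      rfl
    refine ((Category.assoc _ _ _).symm.trans (congrArg (· ≫ CohB1.ProjSpace.toSpec r k)
      ((I.subschemeCover_map_subschemeι U).trans hg))).trans ?_
    refine (Category.assoc _ _ _).trans ?_
    have h := IsAffineOpen.SpecMap_appLE_fromSpec (CohB1.ProjSpace.toSpec r k) (isAffineOpen_top (Spec (CommRingCat.of k)))
      U.2 le_top
    rw [← h, IsAffineOpen.fromSpec_top, Scheme.isoSpec_Spec_inv, ← Spec.map_comp]
    exact (Spec.map_comp _ _).symm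
  haveI : IsOpenImmersion (I.subschemeCover.f U) := inferInstance
  let e := IsOpenImmersion.isoOfRangeEq (I.subschemeι ⁻¹ᵁ LefPen.chart r k j).ι (I.subschemeCover.f U) (by
    rw [Scheme.Opens.range_ι]
    exact congrArg SetLike.coe (I.opensRange_subschemeCover_map U).symm)
  have he : e.hom ≫ I.subschemeCover.f U = (I.subschemeι ⁻¹ᵁ LefPen.chart r k j).ι :=
    IsOpenImmersion.isoOfRangeEq_hom_fac _ _ _
  rw [← he, Category.assoc, MorphismProperty.cancel_left_of_respectsIso @Smooth e.hom, hcomp]
  refine (HasRingHomProperty.Spec_iff (P := @Smooth) (φ := CommRingCat.ofHom ψ)).trans ?_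
  -- the chart ring
  let σ : MvPolynomial (Fin r) k →+* Γ(P, LefPen.chart r k j) :=
    (toSec r k j).comp (GenusZeroLib.chartPoly r k j)
  have hσ : Function.Bijective σ := (toSec_bijective r k j).comp (GenusZeroLib.chartPoly_bijective r k j)
  have hdeh : ∀ p, σ (GenusZeroLib.subst r k j p) = deh r k j p := fun p => by
    refine congrArg (toSec r k j) (RingHom.congr_fun (?_ : (GenusZeroLib.chartPoly r k j).comp (GenusZeroLib.subst r k j) = deh₀ r k j) p)
    refine MvPolynomial.ringHom_ext (fun c => ?_) fun i => ?_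
    · simp [GenusZeroLib.subst, GenusZeroLib.chartPoly, deh₀]
    · rcases Fin.eq_self_or_eq_succAbove j i with rfl | ⟨l, rfl⟩
      · rw [deh₀_X_self]
        simp [GenusZeroLib.subst, GenusZeroLib.chartPoly]
      · simp [GenusZeroLib.subst, GenusZeroLib.chartPoly]
  let J : Ideal (MvPolynomial (Fin r) k) := Ideal.span {GenusZeroLib.subst r k j G.1}
  let E : (MvPolynomial (Fin r) k ⧸ J) ≃+* (Γ(P, LefPen.chart r k j) ⧸ I.ideal U) :=
    Ideal.quotientEquiv J (I.ideal U) (RingEquiv.ofBijective σ hσ) (by
      rw [hypIdeal_chart, Ideal.map_span, Set.image_singleton]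
      exact congrArg (fun t => Ideal.span {t}) (hdeh _).symm)
  have hψ : ψ = (E : _ →+* _).comp (algebraMap k (MvPolynomial (Fin r) k ⧸ J)) := by
    refine RingHom.ext fun c => ?_
    show Ideal.Quotient.mk _ (cstOn r k (LefPen.chart r k j) c) = E (Ideal.Quotient.mk J (MvPolynomial.C c))
    have h := hdeh (MvPolynomial.C c)
    rw [show GenusZeroLib.subst r k j (MvPolynomial.C c) = MvPolynomial.C c by simp [GenusZeroLib.subst], deh_C] at h
    exact congrArg _ h.symm
  rw [show (CommRingCat.ofHom ψ).hom = ψ from rfl, hψ]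
  refine Iff.trans ?_ RingHom.smooth_algebraMap
  have hid : E.symm.toRingHom.comp ((E : _ →+* _).comp (algebraMap k (MvPolynomial (Fin r) k ⧸ J))) =
      algebraMap k (MvPolynomial (Fin r) k ⧸ J) := RingHom.ext fun c => E.symm_apply_apply (algebraMap k (MvPolynomial (Fin r) k ⧸ J) c)
  constructor
  · intro h
    exact hid ▸ RingHom.Smooth.stableUnderComposition _ E.symm.toRingHom h (RingHom.Smooth.of_bijective (f := E.symm.toRingHom) E.symm.bijective)
  · intro h
    exact RingHom.Smooth.stableUnderComposition _ E.toRingHom h (RingHom.Smooth.of_bijective (f := E.toRingHom) E.bijective)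

end Proj

end CIGen
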