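import Groth.Agent.CommAlgDim.Regular
import Groth.Agent.CommAlgDim.GlobalDim
import Groth.Agent.CommAlgDim.CM
import Groth.Agent.CatLib.CM
import Groth.Agent.LiaisonLib.Basic
import Groth.Agent.NormalLib.Regular
import Groth.Agent.SMTLib.MaxHeight
import Mathlib

/-!
# The Jacobian criterion for complete intersections in affine space over an algebraically closed field
-/

set_option autoImplicit false
set_option linter.unusedSectionVars false
set_option linter.style.haveILetI false

universe u

open MvPolynomial IsLocalRing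

namespace CIGen

variable {k : Type u} [Field k] {n r : ℕ}

local notation "S" => MvPolynomial (Fin (n + 1)) k

section general

variable {B : Type u} [CommRing B]

/-- A regular local ring modulo `r` elements which extend to a generating set of size `dim B` of the maximal ideal. -/
theorem quot_regular [IsRegularLocalRing B] {N e : ℕ} (hN : ringKrullDim B = (N : WithBot ℕ∞))
    (g : Fin r → B) (g' : Fin e → B) (he : e + r = N) (hg : ∀ i, g i ∈ maximalIdeal B)
    (hg' : ∀ i, g' i ∈ maximalIdeal B)
    (hgen : maximalIdeal B ≤ Ideal.span (Set.range g) ⊔ Ideal.span (Set.range g') ⊔ maximalIdeal B ^ 2) :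
    IsRegularLocalRing (B ⧸ Ideal.span (Set.range g)) ∧ (r : ℕ∞) ≤ (Ideal.span (Set.range g)).height := by
  classical
  set JB := Ideal.span (Set.range g) with hJB
  have hJm : JB ≤ maximalIdeal B := Ideal.span_le.2 (by rintro _ ⟨i, rfl⟩; exact hg i)
  haveI : Nontrivial (B ⧸ JB) :=
    Ideal.Quotient.nontrivial_iff.2 (ne_top_of_le_ne_top (Ideal.IsMaximal.ne_top inferInstance) hJm)
  haveI : IsLocalRing (B ⧸ JB) := IsLocalRing.of_surjective' (Ideal.Quotient.mk _) Ideal.Quotient.mk_surjective
  have hm : (maximalIdeal B).map (Ideal.Quotient.mk JB) = maximalIdeal (B ⧸ JB) :=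
    IsLocalRing.map_maximalIdeal_of_surjective _ Ideal.Quotient.mk_surjective
  have hgenC : maximalIdeal (B ⧸ JB) ≤ Ideal.span (Set.range fun i => Ideal.Quotient.mk JB (g' i)) := by
    refine Submodule.le_of_le_smul_of_le_jacobson_bot (IsNoetherian.noetherian _)
      (jacobson_eq_maximalIdeal (⊥ : Ideal (B ⧸ JB)) bot_ne_top).ge ?_
    have h := Ideal.map_mono (f := Ideal.Quotient.mk JB) hgen
    rw [hm, Ideal.map_sup, Ideal.map_sup, Ideal.map_quotient_self, bot_sup_eq, Ideal.map_pow, hm,
      Ideal.map_span, ← Set.range_comp] at h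
    rw [smul_eq_mul, ← sq]
    exact h
  have hsle : Ideal.span (Set.range fun i => Ideal.Quotient.mk JB (g' i)) ≤ maximalIdeal (B ⧸ JB) := by
    refine Ideal.span_le.2 ?_
    rintro _ ⟨i, rfl⟩
    rw [SetLike.mem_coe, ← hm]
    exact Ideal.mem_map_of_mem _ (hg' i)
  have hfr : (maximalIdeal (B ⧸ JB)).spanFinrank ≤ e := by
    rw [le_antisymm hgenC hsle]
    refine (Submodule.spanFinrank_span_le_ncard_of_finite (Set.finite_range _)).trans ?_
    rw [← Set.image_univ]
    refine (Set.ncard_image_le Set.finite_univ).trans ?_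
    rw [Set.ncard_univ, Nat.card_fin]
  have hJr : JB.spanFinrank ≤ r := by
    refine (Submodule.spanFinrank_span_le_ncard_of_finite (Set.finite_range _)).trans ?_
    rw [← Set.image_univ]
    refine (Set.ncard_image_le Set.finite_univ).trans ?_
    rw [Set.ncard_univ, Nat.card_fin]
  have hdim := ringKrullDim_le_ringKrullDim_quotient_add_spanFinrank JB
    (hJm.trans (IsLocalRing.ringJacobson_eq_maximalIdeal (R := B)).ge)
  obtain ⟨D, hD⟩ := CommAlgDim.exists_ringKrullDim_eq (R := B ⧸ JB)
  rw [hN, hD] at hdim
  have hD' : N ≤ D + JB.spanFinrank := by exact_mod_cast hdim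
  haveI hreg : IsRegularLocalRing (B ⧸ JB) := IsRegularLocalRing.of_spanFinrank_maximalIdeal_le _ (by
    rw [hD]; exact_mod_cast le_trans hfr (by omega))
  refine ⟨hreg, ?_⟩
  haveI : IsDomain (B ⧸ JB) := CommAlgDim.isDomain_of_isRegularLocalRing _
  haveI : JB.IsPrime := (Ideal.Quotient.isDomain_iff_prime _).1 inferInstance
  have h := CatLib.ringKrullDim_quotient_add_height (CommAlgDim.isCM_of_isRegularLocalRing B) JB
  rw [hN] at h
  have hspan := IsRegularLocalRing.spanFinrank_maximalIdeal (R := B ⧸ JB)
  rw [← hspan] at h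
  obtain ⟨t, ht⟩ := ENat.ne_top_iff_exists.1 (Ideal.height_ne_top (Ideal.IsPrime.ne_top ‹JB.IsPrime›))
  rw [← ht] at h ⊢
  have : (maximalIdeal (B ⧸ JB)).spanFinrank + t = N := by exact_mod_cast h
  exact_mod_cast (by omega : r ≤ t)

/-- Regularity of local rings passes to generalisations. -/
theorem regular_of_le (Q m : Ideal B) [Q.IsPrime] [m.IsPrime]
    [IsRegularLocalRing (Localization.AtPrime m)] (h : Q ≤ m) :
    IsRegularLocalRing (Localization.AtPrime Q) := by
  have hdisj : Disjoint (m.primeCompl : Set B) Q := Set.disjoint_left.2 fun x hx hxQ => hx (h hxQ)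
  haveI : IsRegularLocalRing (Localization m.primeCompl) := ‹IsRegularLocalRing (Localization.AtPrime m)›
  let Q' : Ideal (Localization m.primeCompl) := Q.map (algebraMap B (Localization m.primeCompl))
  haveI : Q'.IsPrime :=
    IsLocalization.isPrime_of_isPrime_disjoint m.primeCompl (Localization m.primeCompl) Q ‹_› hdisj
  have hcomap : Q'.under B = Q :=
    IsLocalization.under_map_of_isPrime_disjoint m.primeCompl (Localization m.primeCompl) ‹_› hdisj
  haveI : IsRegularLocalRing (Localization.AtPrime Q') :=
    CommAlgDim.isRegularLocalRing_localization (Localization m.primeCompl) Q'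
  have key : ∀ (E : Ideal B) [E.IsPrime],
      E = Q'.comap (algebraMap _ (Localization m.primeCompl)) → IsRegularLocalRing (Localization.AtPrime E) := by
    intro E _ hE
    subst hE
    exact IsRegularLocalRing.of_ringEquiv
      (IsLocalization.localizationLocalizationAtPrimeIsoLocalization m.primeCompl Q').toRingEquiv.symm
  exact key Q hcomap.symm

end general

/-- The ideal of a point. -/
noncomputable def ptIdeal (v : Fin (n + 1) → k) : Ideal S := Ideal.span (Set.range fun j => X j - C (v j))

/-- The linear form attached to a vector at a point. -/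
noncomputable def linAt (v : Fin (n + 1) → k) : (Fin (n + 1) → k) →ₗ[k] S :=
  Fintype.linearCombination k fun j => X j - C (v j)

theorem linAt_mem (v u : Fin (n + 1) → k) : linAt v u ∈ ptIdeal v := by
  rw [linAt, Fintype.linearCombination_apply]
  exact Submodule.sum_mem _ fun j _ => Submodule.smul_of_tower_mem _ _ (Ideal.subset_span ⟨j, rfl⟩)

theorem taylor (v : Fin (n + 1) → k) (p : S) :
    p - C (eval v p) - linAt v (fun j => eval v (pderiv j p)) ∈ ptIdeal v ^ 2 := by
  classical
  induction p using MvPolynomial.induction_on with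
  | C a =>
    have : (fun j => eval v (pderiv j (C a : S))) = 0 := funext fun j => by simp
    rw [this]; simp
  | add p q hp hq =>
    have : (fun j => eval v (pderiv j (p + q))) = (fun j => eval v (pderiv j p)) + fun j => eval v (pderiv j q) :=
      funext fun j => by simp
    rw [this, map_add (linAt v), map_add (eval v), map_add C]
    convert Ideal.add_mem _ hp hq using 1
    ring
  | mul_X p i hp =>
    have hd : (fun j => eval v (pderiv j (p * X i))) =
        (v i) • (fun j => eval v (pderiv j p)) + eval v p • (Pi.single i 1 : Fin (n + 1) → k) := funext fun j => by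
      rcases eq_or_ne i j with rfl | h
      · simp [pderiv_X, mul_comm]
        ring
      · simp [pderiv_mul, pderiv_X, Pi.single_apply, h, Ne.symm h, mul_comm]
    rw [hd, map_add, map_smul, map_smul, map_mul (eval v), eval_X, map_mul C, smul_eq_C_mul, smul_eq_C_mul,
      show linAt v (Pi.single i 1) = X i - C (v i) by simp [linAt, Fintype.linearCombination_apply, Pi.single_apply]]
    have h2 : linAt v (fun j => eval v (pderiv j p)) * (X i - C (v i)) ∈ ptIdeal v ^ 2 := by
      rw [sq]; exact Ideal.mul_mem_mul (linAt_mem _ _) (Ideal.subset_span ⟨i, rfl⟩)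
    convert Ideal.add_mem _ (Ideal.mul_mem_right (X i) _ hp) h2 using 1
    ring

theorem sub_eval_mem (v : Fin (n + 1) → k) (p : S) : p - C (eval v p) ∈ ptIdeal v := by
  have h := Ideal.add_mem _ (Ideal.pow_le_self two_ne_zero (taylor v p)) (linAt_mem v fun j => eval v (pderiv j p))
  rwa [sub_add_cancel] at h

theorem ker_eval (v : Fin (n + 1) → k) : RingHom.ker (eval v) = ptIdeal v := by
  refine le_antisymm (fun p hp => ?_) (Ideal.span_le.2 ?_)
  · simpa [RingHom.mem_ker.1 hp] using sub_eval_mem v p
  · rintro _ ⟨j, rfl⟩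
    simp [RingHom.mem_ker]

/-- Linear independence of the differentials at a common zero. -/
def Trans (f : Fin r → S) : Prop :=
  ∀ v : Fin (n + 1) → k, v ≠ 0 → (∀ i, eval v (f i) = 0) →
    LinearIndependent k fun i => fun j => eval v (pderiv j (f i))

set_option maxHeartbeats 1000000 in
theorem at_point (f : Fin r → S) (v : Fin (n + 1) → k) (h0 : ∀ i, eval v (f i) = 0)
    (hli : LinearIndependent k fun i => fun j => eval v (pderiv j (f i)))
    (M : Ideal S) [M.IsPrime] (hM : M = RingHom.ker (eval v)) :
    IsRegularLocalRing (Localization.AtPrime M ⧸ (Ideal.span (Set.range f)).map (algebraMap S (Localization.AtPrime M))) ∧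
      (r : ℕ∞) ≤ ((Ideal.span (Set.range f)).map (algebraMap S (Localization.AtPrime M))).height := by
  classical
  haveI hMmax : M.IsMaximal := hM ▸ RingHom.ker_isMaximal_of_surjective _ fun x => ⟨C x, eval_C x⟩
  let B := Localization.AtPrime M
  haveI : IsRegularLocalRing B := IsRegularRing.isRegularLocalRing_localization M
  have hBdim : ringKrullDim B = ((n + 1 : ℕ) : WithBot ℕ∞) := by
    have h1 := MaxHeight.affine_domain k S M
    rw [MvPolynomial.ringKrullDim_of_isNoetherianRing, ringKrullDim_eq_zero_of_field, zero_add, Nat.card_fin] at h1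
    rw [IsLocalization.AtPrime.ringKrullDim_eq_height M B]
    exact h1
  -- complete the differentials to a basis
  let W := Submodule.span k (Set.range fun i => fun j => eval v (pderiv j (f i)))
  obtain ⟨W', hW'⟩ := Submodule.exists_isCompl W
  have hWr : Module.finrank k W = r := by rw [finrank_span_eq_card hli, Fintype.card_fin]
  have hW'r : Module.finrank k W' = n + 1 - r := by
    have h := Submodule.finrank_add_eq_of_isCompl hW'
    rw [hWr, Module.finrank_fin_fun] at h
    omega
  have hrn : r ≤ n + 1 := by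
    have h := Submodule.finrank_le W
    rwa [hWr, Module.finrank_fin_fun] at h
  let bW := Module.finBasis k W'
  let T : Submodule k (Fin (n + 1) → k) :=
    Submodule.comap (linAt v) ((Ideal.span (Set.range f) ⊔ Ideal.span (Set.range fun m => linAt v (bW m : Fin (n + 1) → k)) ⊔ M ^ 2).restrictScalars k)
  have hT : T = ⊤ := by
    rw [eq_top_iff, ← hW'.sup_eq_top]
    refine sup_le (Submodule.span_le.2 ?_) ?_
    · rintro _ ⟨i, rfl⟩
      have h := taylor v (f i)
      rw [h0 i, map_zero, sub_zero, ← ker_eval, ← hM] at h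
      show linAt v _ ∈ Ideal.span (Set.range f) ⊔ _ ⊔ M ^ 2
      rw [show linAt v (fun j => eval v (pderiv j (f i))) = f i - (f i - linAt v (fun j => eval v (pderiv j (f i)))) by ring]
      exact Submodule.sub_mem _ (Submodule.mem_sup_left (Submodule.mem_sup_left (Ideal.subset_span ⟨i, rfl⟩)))
        (Submodule.mem_sup_right h)
    · intro w hw
      rw [show w = ((⟨w, hw⟩ : W') : Fin (n + 1) → k) from rfl, ← bW.sum_repr ⟨w, hw⟩, Submodule.coe_sum]
      refine Submodule.sum_mem _ fun m _ => ?_
      rw [Submodule.coe_smul]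
      exact Submodule.smul_mem _ _ (Submodule.mem_sup_left (Submodule.mem_sup_right (Ideal.subset_span ⟨m, rfl⟩)))
  have hMle : M ≤ Ideal.span (Set.range f) ⊔ Ideal.span (Set.range fun m => linAt v (bW m : Fin (n + 1) → k)) ⊔ M ^ 2 := by
    conv_lhs => rw [hM, ker_eval]
    refine Ideal.span_le.2 ?_
    rintro _ ⟨j, rfl⟩
    have : linAt v (Pi.single j 1) ∈ Ideal.span (Set.range f) ⊔ Ideal.span (Set.range fun m => linAt v (bW m : Fin (n + 1) → k)) ⊔ M ^ 2 :=
      (hT ▸ Submodule.mem_top : (Pi.single j 1 : Fin (n + 1) → k) ∈ T)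
    simpa [linAt, Fintype.linearCombination_apply, Pi.single_apply] using this
  have hmem : ∀ p : S, p ∈ M → algebraMap S B p ∈ maximalIdeal B := fun p hp => by
    rw [← Localization.AtPrime.map_eq_maximalIdeal]; exact Ideal.mem_map_of_mem _ hp
  have key := quot_regular (B := B) (N := n + 1) (e := Module.finrank k W') hBdim
    (fun i => algebraMap S B (f i)) (fun m => algebraMap S B (linAt v (bW m : Fin (n + 1) → k)))
    (by rw [hW'r]; omega) (fun i => hmem _ (by rw [hM]; exact h0 i))
    (fun m => hmem _ (by rw [hM, ker_eval]; exact linAt_mem _ _)) (by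
      rw [← Localization.AtPrime.map_eq_maximalIdeal]
      refine (Ideal.map_mono hMle).trans (le_of_eq ?_)
      rw [Ideal.map_sup, Ideal.map_sup, Ideal.map_pow, Ideal.map_span, Ideal.map_span, ← Set.range_comp,
        ← Set.range_comp]
      rfl)
  rw [show Set.range (fun i => algebraMap S B (f i)) = algebraMap S B '' Set.range f from
    (Set.range_comp _ _), ← Ideal.map_span] at key
  exact key

theorem exists_point [IsAlgClosed k] (M : Ideal S) [M.IsMaximal] : ∃ v, M = RingHom.ker (eval v) := by
  obtain ⟨v, hv⟩ := isMaximal_iff_eq_vanishingIdeal_singleton.1 ‹M.IsMaximal›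
  refine ⟨v, hv.trans (Ideal.ext fun p => ?_)⟩
  rw [mem_vanishingIdeal_singleton_iff, RingHom.mem_ker, aeval_eq_eval]

theorem point_ne_zero {M : Ideal S} {v : Fin (n + 1) → k} (hM : M = RingHom.ker (eval v)) {j : Fin (n + 1)}
    (hj : X j ∉ M) : v ≠ 0 := fun h => hj (by rw [hM, h]; simp [RingHom.mem_ker])

variable [IsAlgClosed k]

set_option maxHeartbeats 1000000 in
theorem regular_away (f : Fin r → S) (htr : Trans f) (Q : Ideal (S ⧸ Ideal.span (Set.range f))) [Q.IsPrime]
    (hQ : ∃ j, Ideal.Quotient.mk (Ideal.span (Set.range f)) (X j) ∉ Q) :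
    IsRegularLocalRing (Localization.AtPrime Q) := by
  obtain ⟨j, hj⟩ := hQ
  let P := Q.comap (Ideal.Quotient.mk (Ideal.span (Set.range f)))
  haveI : P.IsPrime := Ideal.IsPrime.comap _
  obtain ⟨M, hPM, hMmax, hjM⟩ : ∃ M : Ideal S, P ≤ M ∧ M.IsMaximal ∧ X j ∉ M := by
    by_contra hc
    push Not at hc
    have h : X j ∈ P.jacobson := Ideal.mem_sInf.2 fun {M} hM => hc M hM.1 hM.2
    rw [IsJacobsonRing.out inferInstance ‹P.IsPrime›.isRadical] at h
    exact hj h
  haveI := hMmax
  obtain ⟨v, hv⟩ := exists_point M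
  have hJM : Ideal.span (Set.range f) ≤ M := fun x hx => hPM (by
    show Ideal.Quotient.mk _ x ∈ Q
    rw [Ideal.Quotient.eq_zero_iff_mem.2 hx]; exact Q.zero_mem)
  have hfv : ∀ i, eval v (f i) = 0 := fun i => by
    have := hJM (Ideal.subset_span ⟨i, rfl⟩)
    rwa [hv, RingHom.mem_ker] at this
  have hreg := (at_point f v hfv (htr v (point_ne_zero hv hjM) hfv) M hv).1
  obtain ⟨hp, ⟨e⟩⟩ := LiaisonLib.exists_quot_equiv hJM
  let m := M.map (Ideal.Quotient.mk (Ideal.span (Set.range f)))
  haveI : m.IsPrime := hp
  haveI : IsRegularLocalRing (Localization.AtPrime m) := IsRegularLocalRing.of_ringEquiv e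
  have hQm : Q ≤ m := by
    rw [← Ideal.map_comap_of_surjective _ Ideal.Quotient.mk_surjective Q]
    exact Ideal.map_mono hPM
  exact regular_of_le Q m hQm

theorem height_eq (f : Fin r → S) (htr : Trans f) (hr : r ≤ n + 1) (hne : Ideal.span (Set.range f) ≠ ⊤) :
    (Ideal.span (Set.range f)).height = r := by
  refine le_antisymm ?_ ?_
  · refine (Ideal.height_le_spanFinrank _ hne).trans ?_
    exact_mod_cast (Submodule.spanFinrank_span_le_ncard_of_finite (Set.finite_range f)).trans (by
      rw [← Set.image_univ]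
      exact (Set.ncard_image_le Set.finite_univ).trans (by rw [Set.ncard_univ, Nat.card_fin]))
  · rw [Ideal.height_eq_inf_minimalPrimes]
    refine le_iInf₂ fun P hP => ?_
    haveI : P.IsPrime := hP.1.1
    by_cases hall : ∀ j, X j ∈ P
    · have hle : ptIdeal (0 : Fin (n + 1) → k) ≤ P := Ideal.span_le.2 (by rintro _ ⟨j, rfl⟩; simpa using hall j)
      haveI : (RingHom.ker (eval (0 : Fin (n + 1) → k))).IsMaximal :=
        RingHom.ker_isMaximal_of_surjective _ fun x => ⟨C x, eval_C x⟩
      have heq : RingHom.ker (eval (0 : Fin (n + 1) → k)) = P :=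
        Ideal.IsMaximal.eq_of_le inferInstance (Ideal.IsPrime.ne_top inferInstance) (by rwa [ker_eval])
      have h1 := MaxHeight.affine_domain k S (RingHom.ker (eval (0 : Fin (n + 1) → k)))
      rw [MvPolynomial.ringKrullDim_of_isNoetherianRing, ringKrullDim_eq_zero_of_field, zero_add, Nat.card_fin, heq] at h1
      obtain ⟨t, ht⟩ := ENat.ne_top_iff_exists.1 (Ideal.height_ne_top (Ideal.IsPrime.ne_top ‹P.IsPrime›))
      rw [← ht] at h1 ⊢
      have : t = n + 1 := by exact_mod_cast h1
      exact_mod_cast (by omega : r ≤ t)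
    · push Not at hall
      obtain ⟨j, hj⟩ := hall
      obtain ⟨M, hPM, hMmax, hjM⟩ : ∃ M : Ideal S, P ≤ M ∧ M.IsMaximal ∧ X j ∉ M := by
        by_contra hc
        push Not at hc
        have h : X j ∈ P.jacobson := Ideal.mem_sInf.2 fun {M} hM => hc M hM.1 hM.2
        rw [IsJacobsonRing.out inferInstance ‹P.IsPrime›.isRadical] at h
        exact hj h
      haveI := hMmax
      obtain ⟨v, hv⟩ := exists_point M
      have hfv : ∀ i, eval v (f i) = 0 := fun i => by
        have := hPM (hP.1.2 (Ideal.subset_span ⟨i, rfl⟩))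
        rwa [hv, RingHom.mem_ker] at this
      refine (at_point f v hfv (htr v (point_ne_zero hv hjM) hfv) M hv).2.trans ((Ideal.height_mono (Ideal.map_mono hP.1.2)).trans ?_)
      have hdisj : Disjoint (M.primeCompl : Set S) P := Set.disjoint_left.2 fun x hx hxP => hx (hPM hxP)
      haveI := IsLocalization.isPrime_of_isPrime_disjoint M.primeCompl (Localization.AtPrime M) P ‹_› hdisj
      rw [← IsLocalization.height_under M.primeCompl, IsLocalization.under_map_of_isPrime_disjoint M.primeCompl _ ‹_› hdisj]

end CIGen
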